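import Groth.Agent.FunFld.K671.Basic
import Groth.Agent.S12519
import Groth.Agent.FunFld.K661.Galois

/-! Artin–Schreier double covers of the line in characteristic two, over an algebraically closed
field, with odd poles at the finite points of `B` only: places and orders. -/

set_option autoImplicit false
set_option linter.unusedSectionVars false

namespace K671.AS2

open FunFld WithZero K671.Basic

section Rat

variable {k : Type*} [Field k]

theorem xsub_eq (α : k) : (RatFunc.X - RatFunc.C α : RatFunc k) =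
    algebraMap (Polynomial k) (RatFunc k) (Polynomial.X - Polynomial.C α) := by
  rw [map_sub, RatFunc.algebraMap_X, RatFunc.algebraMap_C]

theorem val_C_le (p : Place k (RatFunc k)) (α : k) : p.1 (RatFunc.C α) ≤ 1 := p.2.1 α

theorem val_X_le {p : Place k (RatFunc k)} {α : k} (h : p.1 (RatFunc.X - RatFunc.C α) ≤ 1) :
    p.1 (RatFunc.X : RatFunc k) ≤ 1 := by
  have : (RatFunc.X : RatFunc k) = (RatFunc.X - RatFunc.C α) + RatFunc.C α := by ring
  rw [this]
  exact p.1.map_add_le h (val_C_le p α)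

theorem rat_val {p : Place k (RatFunc k)} {α : k} (h : p.1 (RatFunc.X - RatFunc.C α) < 1) :
    p.1 (RatFunc.X - RatFunc.C α : RatFunc k) = exp (-1 : ℤ) := by
  obtain ⟨π, hπ, h1, h2⟩ := K666.RatPl.fin_exists p (val_X_le h.le)
  rw [xsub_eq] at h ⊢
  have hdvd : π ∣ Polynomial.X - Polynomial.C α := by
    by_contra hcon
    rw [h2 _ hcon] at h
    exact lt_irrefl _ h
  obtain ⟨q, hq⟩ := hdvd
  have hirr : Irreducible (Polynomial.X - Polynomial.C α) := Polynomial.irreducible_X_sub_C α
  rcases hirr.isUnit_or_isUnit hq with hu | hu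
  · exact absurd hu hπ.not_isUnit
  · obtain ⟨c, hc, rfl⟩ := Polynomial.isUnit_iff.1 hu
    rw [hq, map_mul, map_mul, h1]
    have : p.1 (algebraMap (Polynomial k) (RatFunc k) (Polynomial.C c)) = 1 := by
      rw [RatFunc.algebraMap_C, ← RatFunc.algebraMap_eq_C]
      exact Basic.val_algebraMap p hc.ne_zero
    rw [this, mul_one]

theorem rat_val_ne {p : Place k (RatFunc k)} {α β : k} (h : p.1 (RatFunc.X - RatFunc.C α) < 1)
    (hne : β ≠ α) : p.1 (RatFunc.X - RatFunc.C β : RatFunc k) = 1 := by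
  have h1 : (RatFunc.X - RatFunc.C β : RatFunc k) =
      (RatFunc.X - RatFunc.C α) + algebraMap k (RatFunc k) (α - β) := by
    rw [map_sub, RatFunc.algebraMap_eq_C]; ring
  have h2 := Basic.val_algebraMap p (sub_ne_zero.2 hne.symm)
  rw [h1, Valuation.map_add_eq_of_lt_right _ (by rwa [h2]), h2]

theorem rat_val_inf {p : Place k (RatFunc k)} (h : 1 < p.1 (RatFunc.X : RatFunc k)) (α : k) :
    p.1 (RatFunc.X - RatFunc.C α : RatFunc k) = exp (1 : ℤ) := by
  rw [Valuation.map_sub_eq_of_lt_left _ ((val_C_le p α).trans_lt h), K666.RatPl.inf_val_X p h]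

theorem rat_place_unique {p p' : Place k (RatFunc k)} {α : k}
    (h : p.1 (RatFunc.X - RatFunc.C α) < 1) (h' : p'.1 (RatFunc.X - RatFunc.C α) < 1) : p = p' := by
  -- both are given by the vanishing order at `α`
  have key : ∀ (q : Place k (RatFunc k)), q.1 (RatFunc.X - RatFunc.C α) < 1 → ∀ g : Polynomial k,
      g ≠ 0 → q.1 (algebraMap (Polynomial k) (RatFunc k) g) = exp (-(g.rootMultiplicity α : ℤ)) := by
    intro q hq g hg
    obtain ⟨r, hr, hnd⟩ := Polynomial.exists_eq_pow_rootMultiplicity_mul_and_not_dvd g hg α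
    have hv := rat_val hq
    have hr1 : q.1 (algebraMap (Polynomial k) (RatFunc k) r) = 1 := by
      have hdiv : r = (Polynomial.X - Polynomial.C α) * (r /ₘ (Polynomial.X - Polynomial.C α)) +
          Polynomial.C (r.eval α) := by
        conv_lhs => rw [← Polynomial.modByMonic_add_div r (Polynomial.X - Polynomial.C α),
          Polynomial.modByMonic_X_sub_C_eq_C_eval]
        ring
      have hne : r.eval α ≠ 0 := by
        intro h0
        exact hnd (Polynomial.dvd_iff_isRoot.2 h0)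
      have h2 := Basic.val_algebraMap q hne
      rw [hdiv, map_add, map_mul, RatFunc.algebraMap_C, ← RatFunc.algebraMap_eq_C,
        Valuation.map_add_eq_of_lt_right, h2]
      rw [h2, map_mul, ← xsub_eq]
      refine lt_of_le_of_lt (mul_le_of_le_one_right' ?_) hq
      exact K666.RatPl.poly_le q (val_X_le hq.le) _
    rw [hr, map_mul, map_mul, hr1, mul_one, map_pow, map_pow, ← xsub_eq, hv, ← exp_nsmul]
    rw [← hr]
    simp
  apply Subtype.ext
  apply Valuation.ext
  intro z
  by_cases hz : z = 0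
  · rw [hz, map_zero, map_zero]
  rw [← RatFunc.num_div_denom z, map_div₀, map_div₀,
    key p h _ (RatFunc.num_ne_zero hz), key p h _ (RatFunc.denom_ne_zero z),
    key p' h' _ (RatFunc.num_ne_zero hz), key p' h' _ (RatFunc.denom_ne_zero z)]

end Rat

variable {k K : Type*} [Field k] [IsAlgClosed k] [CharP k 2] [Field K] [Algebra k K]
  [Algebra (RatFunc k) K] [IsScalarTower k (RatFunc k) K]

/-- The standing hypotheses. -/
structure Data (y : K) (f : RatFunc k) (B : Finset k) (d : k → ℕ) : Prop where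
  hdeg : Module.finrank (RatFunc k) K = 2
  hy : y ∉ Set.range (algebraMap (RatFunc k) K)
  heq : y ^ 2 + y = algebraMap (RatFunc k) K f
  hd : ∀ α ∈ B, Odd (d α)
  hpole : ∀ (p : FunFld.Place k (RatFunc k)) (α : k), α ∈ B →
      p.1 ((RatFunc.X : RatFunc k) - RatFunc.C α) < 1 → p.ord f = -(d α : ℤ)
  hint : ∀ p : FunFld.Place k (RatFunc k),
    (∀ α ∈ B, 1 ≤ p.1 ((RatFunc.X : RatFunc k) - RatFunc.C α)) → p.1 f ≤ 1

theorem xa_eq (α : k) : algebraMap (RatFunc k) K RatFunc.X - algebraMap k K α =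
    algebraMap (RatFunc k) K (RatFunc.X - RatFunc.C α) := by
  rw [map_sub, ← RatFunc.algebraMap_eq_C, ← IsScalarTower.algebraMap_apply]

theorem xa_ne_zero (α : k) : algebraMap (RatFunc k) K RatFunc.X - algebraMap k K α ≠ 0 := by
  rw [xa_eq, Ne, FaithfulSMul.algebraMap_eq_zero_iff, xsub_eq, FaithfulSMul.algebraMap_eq_zero_iff]
  exact Polynomial.X_sub_C_ne_zero α

namespace Data

variable {y : K} {f : RatFunc k} {B : Finset k} {d : k → ℕ} (D : Data y f B d)

include D

theorem finite : FiniteDimensional (RatFunc k) K := Module.finite_of_finrank_eq_succ D.hdeg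

theorem charP : CharP K 2 :=
  charP_of_injective_ringHom ((algebraMap (RatFunc k) K).comp (algebraMap k (RatFunc k))).injective 2

theorem y_ne_zero : y ≠ 0 := by
  rintro rfl
  exact D.hy ⟨0, map_zero _⟩

theorem exists_below (P : Place k K) : ∃ p : Place k (RatFunc k), IsOver P p := by
  have := D.finite
  exact K661.Place.exists_below P

theorem two_pos (α : k) (hα : α ∈ B) : 0 < d α := (D.hd α hα).pos

variable [Algebra.IsSeparable (RatFunc k) K]

/-- the nontrivial automorphism -/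
theorem exists_aut : ∃ σ : K ≃ₐ[RatFunc k] K, σ y = y + 1 := by
  obtain ⟨σ, hσ⟩ := K666.QuadPl.exists_aut D.hdeg y D.hy
  have hch := D.charP
  refine ⟨σ, ?_⟩
  have e1 : (σ y) ^ 2 + σ y = y ^ 2 + y := by
    rw [← map_pow, ← map_add, D.heq, AlgEquiv.commutes]
  have e2 : (σ y - y) * (σ y + y + 1) = 0 := by linear_combination e1
  rcases mul_eq_zero.mp e2 with h | h
  · exact absurd (sub_eq_zero.mp h) hσ
  · have h2 : (2 : K) = 0 := CharTwo.two_eq_zero
    linear_combination h - (y + 1) * h2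

/-- integrality of `y` -/
theorem val_y_le {P : Place k K} {p : Place k (RatFunc k)} (h : IsOver P p) (hp : p.1 f ≤ 1) :
    P.1 y ≤ 1 := by
  by_contra hcon
  rw [not_le] at hcon
  have h3 : P.1 (y + 1) = P.1 y := by
    apply Valuation.map_add_eq_of_lt_left
    rwa [map_one]
  have h4 : P.1 (algebraMap (RatFunc k) K f) ≤ 1 := by
    rwa [K661.Place.val_algebraMap_le_one_iff h]
  rw [← D.heq, show y ^ 2 + y = y * (y + 1) by ring, map_mul, h3] at h4
  exact absurd h4 (not_le.mpr (one_lt_mul_of_lt_of_le hcon hcon.le))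

theorem result (P₀ : Place k (RatFunc k)) :
    ((P₀.ord f < 0 ∧ Odd (P₀.ord f)) → (∃! P : FunFld.Place k K, FunFld.IsOver P P₀) ∧
      ∀ P : FunFld.Place k K, FunFld.IsOver P P₀ → FunFld.IsOverWith P P₀ 2 ∧ P.deg = P₀.deg) ∧
    (0 ≤ P₀.ord f → ∀ P : FunFld.Place k K, FunFld.IsOver P P₀ → FunFld.IsOverWith P P₀ 1) :=
  Groth.Agent.S12519.result k K (CharP.ringChar_of_prime_eq_zero Nat.prime_two
    (by exact_mod_cast CharP.cast_eq_zero k 2)) D.hdeg y D.hy f D.heq P₀

/-- the places above the points of `B` -/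
theorem val_xa {P : Place k K} {α : k} (hα : α ∈ B)
    (h : P.1 (algebraMap (RatFunc k) K RatFunc.X - algebraMap k K α) < 1) :
    P.1 (algebraMap (RatFunc k) K RatFunc.X - algebraMap k K α) = exp (-2 : ℤ) := by
  obtain ⟨p, hp⟩ := D.exists_below P
  rw [xa_eq] at h ⊢
  rw [K661.Place.val_algebraMap_lt_one_iff hp] at h
  have h1 := D.hpole p α hα h
  have h2 := ((D.result p).1 ⟨by have := D.two_pos α hα; omega, by
    rw [h1]; exact ((D.hd α hα).natCast).neg⟩).2 P hp
  rw [h2.1 _, rat_val h, ← exp_nsmul]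
  rfl

theorem val_y {P : Place k K} {α : k} (hα : α ∈ B)
    (h : P.1 (algebraMap (RatFunc k) K RatFunc.X - algebraMap k K α) < 1) :
    P.1 y = exp (d α : ℤ) := by
  obtain ⟨p, hp⟩ := D.exists_below P
  rw [xa_eq, K661.Place.val_algebraMap_lt_one_iff hp] at h
  have h1 := D.hpole p α hα h
  have hpos := D.two_pos α hα
  have h2 := ((D.result p).1 ⟨by omega, by
    rw [h1]; exact ((D.hd α hα).natCast).neg⟩).2 P hp
  have hf0 : f ≠ 0 := by
    rintro rfl
    rw [ord_zero] at h1
    omega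
  have h3 : P.1 (y ^ 2 + y) = exp (2 * (d α : ℤ)) := by
    rw [D.heq, h2.1, val_eq_exp p hf0, h1, ← exp_nsmul]
    congr 1
    simp
  have h4 : 1 < P.1 y := by
    by_contra hcon
    rw [not_lt] at hcon
    have : P.1 (y ^ 2 + y) ≤ 1 := P.1.map_add_le (by rw [map_pow]; exact pow_le_one' hcon 2) hcon
    rw [h3, ← exp_zero, exp_le_exp] at this
    omega
  have h5 : P.1 (y + 1) = P.1 y := by
    apply Valuation.map_add_eq_of_lt_left
    rwa [map_one]
  rw [show y ^ 2 + y = y * (y + 1) by ring, map_mul, h5, val_eq_exp P D.y_ne_zero, ← exp_add,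
    exp_inj] at h3
  rw [val_eq_exp P D.y_ne_zero]
  congr 1
  omega

theorem place_unique {P P' : Place k K} {α : k} (hα : α ∈ B)
    (h : P.1 (algebraMap (RatFunc k) K RatFunc.X - algebraMap k K α) < 1)
    (h' : P'.1 (algebraMap (RatFunc k) K RatFunc.X - algebraMap k K α) < 1) : P = P' := by
  obtain ⟨p, hp⟩ := D.exists_below P
  obtain ⟨p', hp'⟩ := D.exists_below P'
  rw [xa_eq, K661.Place.val_algebraMap_lt_one_iff hp] at h
  rw [xa_eq, K661.Place.val_algebraMap_lt_one_iff hp'] at h'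
  have hpp := rat_place_unique h h'
  subst hpp
  have h1 := D.hpole p α hα h
  have hpos := D.two_pos α hα
  have h2 := ((D.result p).1 ⟨by omega, by
    rw [h1]; exact ((D.hd α hα).natCast).neg⟩).1
  exact h2.unique hp hp'

theorem val_xa_ne {P : Place k K} {α β : k}
    (h : P.1 (algebraMap (RatFunc k) K RatFunc.X - algebraMap k K α) < 1) (hne : β ≠ α) :
    P.1 (algebraMap (RatFunc k) K RatFunc.X - algebraMap k K β) = 1 := by
  obtain ⟨p, hp⟩ := D.exists_below P
  rw [xa_eq, K661.Place.val_algebraMap_lt_one_iff hp] at h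
  rw [xa_eq, K661.Place.val_algebraMap hp, rat_val_ne h hne, one_pow]

theorem exists_center {P : Place k K} (h : P.1 (algebraMap (RatFunc k) K RatFunc.X) ≤ 1) :
    ∃ α : k, P.1 (algebraMap (RatFunc k) K RatFunc.X - algebraMap k K α) < 1 := by
  obtain ⟨p, hp⟩ := D.exists_below P
  rw [K661.Place.val_algebraMap_le_one_iff hp] at h
  obtain ⟨α, hα⟩ := K666.Basic.exists_const K666.RatPl.isFunctionField p _ h
  refine ⟨α, ?_⟩
  rw [xa_eq, K661.Place.val_algebraMap_lt_one_iff hp]
  exact hα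

theorem one_le_below {P : Place k K} {p : Place k (RatFunc k)} (hp : IsOver P p)
    (h : ∀ α ∈ B, 1 ≤ P.1 (algebraMap (RatFunc k) K RatFunc.X - algebraMap k K α)) :
    ∀ α ∈ B, 1 ≤ p.1 (RatFunc.X - RatFunc.C α : RatFunc k) := by
  intro α hα
  have := h α hα
  rw [xa_eq] at this
  rwa [← not_lt, K661.Place.val_algebraMap_lt_one_iff hp, not_lt] at this

/-- `y` is integral away from `B` -/
theorem val_y_le_one {P : Place k K}
    (h : ∀ α ∈ B, 1 ≤ P.1 (algebraMap (RatFunc k) K RatFunc.X - algebraMap k K α)) : P.1 y ≤ 1 := by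
  obtain ⟨p, hp⟩ := D.exists_below P
  exact D.val_y_le hp (D.hint p (D.one_le_below hp h))

theorem unram {P : Place k K} {p : Place k (RatFunc k)} (hp : IsOver P p)
    (h : ∀ α ∈ B, 1 ≤ P.1 (algebraMap (RatFunc k) K RatFunc.X - algebraMap k K α)) :
    ∀ z : RatFunc k, P.1 (algebraMap (RatFunc k) K z) = p.1 z := by
  intro z
  have h1 := (D.result p).2 ((val_le_one_iff p f).1 (D.hint p (D.one_le_below hp h))) P hp
  rw [h1 z, pow_one]

theorem val_xa_of_not_mem {P : Place k K} {α : k} (hα : α ∉ B)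
    (h : P.1 (algebraMap (RatFunc k) K RatFunc.X - algebraMap k K α) < 1) :
    P.1 (algebraMap (RatFunc k) K RatFunc.X - algebraMap k K α) = exp (-1 : ℤ) := by
  obtain ⟨p, hp⟩ := D.exists_below P
  have hB : ∀ β ∈ B, 1 ≤ P.1 (algebraMap (RatFunc k) K RatFunc.X - algebraMap k K β) := by
    intro β hβ
    rw [D.val_xa_ne h (by rintro rfl; exact hα hβ)]
  rw [xa_eq, K661.Place.val_algebraMap_lt_one_iff hp] at h
  rw [xa_eq, D.unram hp hB, rat_val h]

theorem inf_B {P : Place k K} (h : 1 < P.1 (algebraMap (RatFunc k) K RatFunc.X)) (α : k) :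
    1 < P.1 (algebraMap (RatFunc k) K RatFunc.X - algebraMap k K α) := by
  rw [Valuation.map_sub_eq_of_lt_left _ ((P.2.1 α).trans_lt h)]
  exact h

theorem val_x_inf {P : Place k K} (h : 1 < P.1 (algebraMap (RatFunc k) K RatFunc.X)) :
    P.1 (algebraMap (RatFunc k) K RatFunc.X) = exp (1 : ℤ) := by
  obtain ⟨p, hp⟩ := D.exists_below P
  have h1 := D.unram hp (fun α _ => (D.inf_B h α).le)
  rw [h1] at h ⊢
  exact K666.RatPl.inf_val_X p h

theorem val_xa_inf {P : Place k K} (h : 1 < P.1 (algebraMap (RatFunc k) K RatFunc.X)) (α : k) :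
    P.1 (algebraMap (RatFunc k) K RatFunc.X - algebraMap k K α) = exp (1 : ℤ) := by
  rw [Valuation.map_sub_eq_of_lt_left _ ((P.2.1 α).trans_lt h), D.val_x_inf h]

end Data

end K671.AS2
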