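import Groth.Agent.FunFld.K671.AS2
import Groth.Agent.FunFld.K660.LowGenus

/-! Repartitions modulo `A(0) + K` for an Artin–Schreier double cover in characteristic two. -/

set_option autoImplicit false
set_option linter.unusedSectionVars false

open Classical

namespace K671.AS2

open FunFld WithZero K671.Basic

section Gen

variable {k : Type*} [Field k] [IsAlgClosed k]

/-- Exhausting the functions at a point by powers of the coordinate. -/
theorem gen {p : Place k (RatFunc k)} {α : k} (h : p.1 (RatFunc.X - RatFunc.C α) < 1)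
    (N : Submodule k (RatFunc k)) (m : ℕ) : ∀ (n0 : ℤ)
    (_ : ∀ w, p.1 w ≤ exp (-(n0 + m)) → w ∈ N)
    (_ : ∀ n : ℤ, n0 ≤ n → (RatFunc.X - RatFunc.C α : RatFunc k) ^ n ∈ N),
    ∀ w, p.1 w ≤ exp (-n0) → w ∈ N := by
  have ht := rat_val h
  have ht0 : (RatFunc.X - RatFunc.C α : RatFunc k) ≠ 0 := by
    intro h0
    rw [h0, map_zero] at ht
    exact exp_ne_zero ht.symm
  induction m with
  | zero => 
    intro n0 hN _ w hw
    exact hN w (by simpa using hw)
  | succ m ih =>
    intro n0 hN htN w hw
    have h1 : p.1 (w * (RatFunc.X - RatFunc.C α) ^ (-n0)) ≤ 1 := by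
      rw [map_mul, map_zpow₀, ht, ← exp_zsmul]
      calc p.1 w * exp (-n0 • (-1 : ℤ)) ≤ exp (-n0) * exp (-n0 • (-1 : ℤ)) := by gcongr
        _ = 1 := by rw [← exp_add, ← exp_zero]; congr 1; simp
    obtain ⟨c, hc⟩ := K666.Basic.exists_const K666.RatPl.isFunctionField p _ h1
    have h2 : p.1 (w - c • (RatFunc.X - RatFunc.C α) ^ n0) ≤ exp (-(n0 + 1)) := by
      rw [K661.Place.val_lt_one_iff_le] at hc
      have e : w - c • (RatFunc.X - RatFunc.C α) ^ n0 =
          (w * (RatFunc.X - RatFunc.C α) ^ (-n0) - algebraMap k (RatFunc k) c) *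
            (RatFunc.X - RatFunc.C α) ^ n0 := by
        rw [sub_mul, mul_assoc, ← zpow_add₀ ht0, neg_add_cancel, zpow_zero, mul_one,
          Algebra.smul_def]
      rw [e, map_mul, map_zpow₀, ht, ← exp_zsmul]
      calc _ ≤ exp (-1 : ℤ) * exp (n0 • (-1 : ℤ)) := by gcongr
        _ = exp (-(n0 + 1)) := by rw [← exp_add]; congr 1; simp
    have h3 := ih (n0 + 1) (fun w hw => hN w (by
      have : -(n0 + 1 + (m : ℤ)) = -(n0 + ((m + 1 : ℕ) : ℤ)) := by push_cast; ring
      rwa [this] at hw)) (fun n hn => htN n (by omega)) _ h2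
    have h4 := N.add_mem h3 (N.smul_mem c (htN n0 le_rfl))
    rwa [sub_add_cancel] at h4

end Gen

section Single

variable {k K : Type*} [Field k] [Field K] [Algebra k K]

theorem single_mem_AD {P : Place k K} {z : K} (h : P.1 z ≤ 1) :
    (Pi.single P z : Place k K → K) ∈ AD (0 : Divisor k K) := by
  intro Q
  rw [Finsupp.coe_zero, Pi.zero_apply, exp_zero]
  by_cases hQ : Q = P
  · subst hQ
    rwa [Pi.single_eq_same]
  · rw [Pi.single_eq_of_ne hQ, map_zero]
    exact zero_le

theorem sum_single_mem_W (S : Finset (Place k K)) {g : K} (h : ∀ Q ∉ S, Q.1 g ≤ 1) :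
    (∑ P ∈ S, (Pi.single P g : Place k K → K)) ∈
      AD (0 : Divisor k K) ⊔ LinearMap.range (diag k K) := by
  have h1 : (∑ P ∈ S, (Pi.single P g : Place k K → K)) =
      (fun Q => if Q ∈ S then 0 else -g) + diag k K g := by
    ext Q
    rw [Finset.sum_apply, Pi.add_apply]
    change _ = _ + g
    by_cases hQ : Q ∈ S
    · rw [if_pos hQ, Finset.sum_eq_single Q]
      · rw [Pi.single_eq_same, zero_add]
      · intro P _ hP
        rw [Pi.single_eq_of_ne (Ne.symm hP)]
      · intro h'; exact absurd hQ h'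
    · rw [if_neg hQ, Finset.sum_eq_zero]
      · ring
      · intro P hP
        rw [Pi.single_eq_of_ne (by rintro rfl; exact hQ hP)]
  rw [h1]
  refine Submodule.add_mem_sup ?_ ⟨g, rfl⟩
  intro Q
  rw [Finsupp.coe_zero, Pi.zero_apply, exp_zero]
  change Q.1 (if Q ∈ S then 0 else -g) ≤ 1
  by_cases hQ : Q ∈ S
  · rw [if_pos hQ, map_zero]; exact zero_le
  · rw [if_neg hQ, Valuation.map_neg]; exact h Q hQ

theorem single_mem_W {P : Place k K} {g : K} (h : ∀ Q ≠ P, Q.1 g ≤ 1) :
    (Pi.single P g : Place k K → K) ∈ AD (0 : Divisor k K) ⊔ LinearMap.range (diag k K) := by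
  have := sum_single_mem_W {P} (g := g) (fun Q hQ => h Q (by simpa using hQ))
  rwa [Finset.sum_singleton] at this

theorem single_mem_adele (_hK : IsFunctionField k K) (P : Place k K) (g : K) :
    (Pi.single P g : Place k K → K) ∈ adele k K := by
  rw [K660.Compare.mem_adele]
  refine (Set.finite_singleton P).subset ?_
  intro Q hQ
  by_contra hne
  apply hQ
  rw [Pi.single_eq_of_ne hne, map_zero]
  exact zero_le

end Single

variable {k K : Type*} [Field k] [IsAlgClosed k] [CharP k 2] [Field K] [Algebra k K]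
  [Algebra (RatFunc k) K] [IsScalarTower k (RatFunc k) K] [Algebra.IsSeparable (RatFunc k) K]

namespace Data

variable {y : K} {f : RatFunc k} {B : Finset k} {d : k → ℕ} (D : Data y f B d)

include D

theorem rat_of {P : Place k K} {p : Place k (RatFunc k)} {α : k} (hp : IsOver P p)
    (hP : P.1 (algebraMap (RatFunc k) K RatFunc.X - algebraMap k K α) < 1) :
    p.1 (RatFunc.X - RatFunc.C α) < 1 := by
  rwa [xa_eq, K661.Place.val_algebraMap_lt_one_iff hp] at hP

/-- powers of `x - α` with nonpositive exponent are integral away from `α` -/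
theorem val_zpow_le {Q : Place k K} {α : k}
    (hQ : 1 ≤ Q.1 (algebraMap (RatFunc k) K RatFunc.X - algebraMap k K α)) {n : ℤ} (hn : n ≤ 0) :
    Q.1 ((algebraMap (RatFunc k) K RatFunc.X - algebraMap k K α) ^ n) ≤ 1 := by
  rw [map_zpow₀]
  exact zpow_le_one_of_nonpos₀ hQ hn

/-- the repartition supported above `α` with a rational value is trivial -/
theorem single_rat_mem {P : Place k K} {α : k} (hα : α ∈ B)
    (hP : P.1 (algebraMap (RatFunc k) K RatFunc.X - algebraMap k K α) < 1) (u : RatFunc k) :
    (Pi.single P (algebraMap (RatFunc k) K u) : Place k K → K) ∈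
      AD (0 : Divisor k K) ⊔ LinearMap.range (diag k K) := by
  obtain ⟨p, hp⟩ := D.exists_below P
  have hpα := D.rat_of hp hP
  -- the submodule of good `u`
  let N : Submodule k (RatFunc k) := (AD (0 : Divisor k K) ⊔ LinearMap.range (diag k K)).comap
    ((LinearMap.single k (fun _ : Place k K => K) P).comp
      (IsScalarTower.toAlgHom k (RatFunc k) K).toLinearMap)
  have hN : ∀ w, w ∈ N ↔ (Pi.single P (algebraMap (RatFunc k) K w) : Place k K → K) ∈
      AD (0 : Divisor k K) ⊔ LinearMap.range (diag k K) := fun w => Iff.rfl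
  have h0 : ∀ w, p.1 w ≤ 1 → w ∈ N := by
    intro w hw
    rw [hN]
    refine Submodule.mem_sup_left (single_mem_AD ?_)
    rwa [K661.Place.val_algebraMap_le_one_iff hp]
  have hx0 : (RatFunc.X - RatFunc.C α : RatFunc k) ≠ 0 := by
    intro h
    exact xa_ne_zero (k := k) (K := K) α (by rw [xa_eq, h, map_zero])
  by_cases hu : u = 0
  · rw [← hN, hu]
    exact N.zero_mem
  rw [← hN]
  refine gen hpα N (p.ord u).natAbs (-(p.ord u).natAbs : ℤ) ?_ ?_ u ?_
  · intro w hw
    apply h0
    rwa [neg_add_cancel, neg_zero, exp_zero] at hw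
  · intro n _
    rw [hN]
    rcases le_total n 0 with hn | hn
    · rw [map_zpow₀, ← xa_eq]
      apply single_mem_W
      intro Q hQ
      refine D.val_zpow_le ?_ hn
      by_contra hcon
      exact hQ (D.place_unique hα (not_le.1 hcon) hP)
    · rw [← hN]
      apply h0
      rw [map_zpow₀]
      lift n to ℕ using hn
      rw [zpow_natCast]
      exact pow_le_one' hpα.le n
  · rw [val_eq_exp p hu, exp_le_exp]
    omega

/-- every element is `u + v y` -/
theorem exists_eq (g : K) : ∃ u v : RatFunc k,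
    g = algebraMap (RatFunc k) K u + algebraMap (RatFunc k) K v * y := by
  have hfin := D.finite
  have hli : LinearIndependent (RatFunc k) ![(1 : K), y] := by
    rw [LinearIndependent.pair_iff]
    intro s t hst
    by_cases ht : t = 0
    · rw [ht, zero_smul, add_zero, smul_eq_zero] at hst
      exact ⟨hst.resolve_right one_ne_zero, ht⟩
    · exfalso
      apply D.hy
      refine ⟨-s / t, ?_⟩
      rw [Algebra.smul_def, Algebra.smul_def, mul_one] at hst
      have ht' : algebraMap (RatFunc k) K t ≠ 0 := by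
        rwa [Ne, FaithfulSMul.algebraMap_eq_zero_iff]
      rw [map_div₀, map_neg, div_eq_iff ht']
      linear_combination -hst
  have hspan := hli.span_eq_top_of_card_eq_finrank' (by rw [D.hdeg]; rfl)
  have hg : g ∈ Submodule.span (RatFunc k) (Set.range ![(1 : K), y]) := by rw [hspan]; trivial
  rw [Matrix.range_cons, Matrix.range_cons, Matrix.range_empty, Set.union_empty,
    Set.singleton_union, Submodule.mem_span_pair] at hg
  obtain ⟨u, v, rfl⟩ := hg
  exact ⟨u, v, by rw [Algebra.smul_def, Algebra.smul_def, mul_one]⟩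

/-- the monomials -/
theorem val_y_mul_pow {P : Place k K} {α : k} (hα : α ∈ B)
    (hP : P.1 (algebraMap (RatFunc k) K RatFunc.X - algebraMap k K α) < 1) (j : ℕ) :
    P.1 (y * (algebraMap (RatFunc k) K RatFunc.X - algebraMap k K α) ^ j) =
      exp ((d α : ℤ) - 2 * j) := by
  rw [map_mul, map_pow, D.val_y hα hP, D.val_xa hα hP, ← exp_nsmul, ← exp_add]
  congr 1
  simp
  ring

theorem frob {P : Place k K} {α : k} (hα : α ∈ B)
    (hP : P.1 (algebraMap (RatFunc k) K RatFunc.X - algebraMap k K α) < 1) (j : ℕ) :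
    (Pi.single P ((y * (algebraMap (RatFunc k) K RatFunc.X - algebraMap k K α) ^ j) ^ 2) :
        Place k K → K) -
      (Pi.single P (y * (algebraMap (RatFunc k) K RatFunc.X - algebraMap k K α) ^ (2 * j)) :
        Place k K → K) ∈ AD (0 : Divisor k K) ⊔ LinearMap.range (diag k K) := by
  have hch := D.charP
  have h2 : (2 : K) = 0 := CharTwo.two_eq_zero
  have h1 := D.single_rat_mem hα hP (f * (RatFunc.X - RatFunc.C α) ^ (2 * j))
  have h3 : algebraMap (RatFunc k) K (f * (RatFunc.X - RatFunc.C α) ^ (2 * j)) =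
      (y * (algebraMap (RatFunc k) K RatFunc.X - algebraMap k K α) ^ j) ^ 2 -
        y * (algebraMap (RatFunc k) K RatFunc.X - algebraMap k K α) ^ (2 * j) := by
    rw [map_mul, map_pow, ← xa_eq, ← D.heq]
    linear_combination (y * (algebraMap (RatFunc k) K RatFunc.X - algebraMap k K α) ^ (2 * j)) * h2
  rw [h3, Pi.single_sub] at h1
  exact h1

end Data

end K671.AS2
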