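import Groth.Agent.FunFld.K671.AS3

/-! A basis of the repartitions modulo `A(0) + K` for an Artin–Schreier double cover in
characteristic two. -/

set_option autoImplicit false
set_option linter.unusedSectionVars false

open Classical

namespace K671.AS2

open FunFld WithZero K671.Basic

/-- The value of a polynomial at an element of positive order. -/
theorem val_aeval_root {k K : Type*} [Field k] [Field K] [Algebra k K] {P : Place k K} {t : K}
    (ht : P.1 t < 1) {q : Polynomial k} (hq : q ≠ 0) :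
    P.1 (Polynomial.aeval t q) = P.1 t ^ q.rootMultiplicity 0 := by
  obtain ⟨r, hr, hnd⟩ := Polynomial.exists_eq_pow_rootMultiplicity_mul_and_not_dvd q hq 0
  rw [Polynomial.C_0, sub_zero] at hr hnd
  have hr1 : P.1 (Polynomial.aeval t r) = 1 := by
    have hdiv := Polynomial.X_mul_divX_add r
    have hne : r.coeff 0 ≠ 0 := by
      intro h0
      exact hnd (Polynomial.X_dvd_iff.2 h0)
    have h2 := Basic.val_algebraMap P hne
    rw [← hdiv, map_add, map_mul, Polynomial.aeval_X, Polynomial.aeval_C,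
      Valuation.map_add_eq_of_lt_right, h2]
    rw [h2, map_mul]
    exact lt_of_le_of_lt (mul_le_of_le_one_right' (K666.Basic.Place_aeval_le P t ht.le _)) ht
  conv_lhs => rw [hr]
  rw [map_mul, map_mul, hr1, mul_one, map_pow, map_pow, Polynomial.aeval_X]

variable {k K : Type*} [Field k] [IsAlgClosed k] [CharP k 2] [Field K] [Algebra k K]
  [Algebra (RatFunc k) K] [IsScalarTower k (RatFunc k) K] [Algebra.IsSeparable (RatFunc k) K]

namespace Data

variable {y : K} {f : RatFunc k} {B : Finset k} {d : k → ℕ} (D : Data y f B d)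

include D

theorem pl_inj {Pl : k → Place k K}
    (hPl : ∀ β ∈ B, (Pl β).1 (algebraMap (RatFunc k) K RatFunc.X - algebraMap k K β) < 1)
    {α β : k} (hα : α ∈ B) (hβ : β ∈ B) (h : Pl α = Pl β) : α = β := by
  by_contra hne
  have h1 := D.val_xa_ne (hPl α hα) (β := β) (Ne.symm hne)
  have h2 := hPl β hβ
  rw [← h, h1] at h2
  exact lt_irrefl _ h2

/-- spanning -/
theorem span_aux (hK : IsFunctionField k K) (h0 : (0 : k) ∈ B) {Pl : k → Place k K}
    (hPl : ∀ β ∈ B, (Pl β).1 (algebraMap (RatFunc k) K RatFunc.X - algebraMap k K β) < 1)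
    (S : Submodule k (Place k K → K))
    (hW : AD (0 : Divisor k K) ⊔ LinearMap.range (diag k K) ≤ S)
    (hS : ∀ β ∈ B, ∀ j : ℕ, 2 * j + 1 ≤ d β → (β = 0 → j ≠ 0) → (Pi.single (Pl β)
      (y * (algebraMap (RatFunc k) K RatFunc.X - algebraMap k K β) ^ j) : Place k K → K) ∈ S)
    (a : Place k K → K) (ha : a ∈ adele k K) : a ∈ S := by
  have hAD : AD (0 : Divisor k K) ≤ S := le_sup_left.trans hW
  have h1 : ∀ β ∈ B, ∀ j : ℕ, (β = 0 → j ≠ 0) → (Pi.single (Pl β)
      (y * (algebraMap (RatFunc k) K RatFunc.X - algebraMap k K β) ^ j) : Place k K → K) ∈ S := by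
    intro β hβ j hj
    by_cases h : 2 * j + 1 ≤ d β
    · exact hS β hβ j h hj
    · refine hAD (single_mem_AD ?_)
      rw [D.val_y_mul_pow hβ (hPl β hβ), ← exp_zero, exp_le_exp]
      omega
  -- the submodule of good values at a point
  let N : k → Submodule k (RatFunc k) := fun β => S.comap
    ((LinearMap.single k (fun _ : Place k K => K) (Pl β)).comp
      ((LinearMap.mulLeft k y).comp (IsScalarTower.toAlgHom k (RatFunc k) K).toLinearMap))
  have hN : ∀ β w, w ∈ N β ↔ (Pi.single (Pl β) (y * algebraMap (RatFunc k) K w) :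
      Place k K → K) ∈ S := fun β w => Iff.rfl
  have hbig : ∀ β ∈ B, ∀ p : Place k (RatFunc k), IsOver (Pl β) p → ∀ w,
      p.1 w ≤ exp (-(d β : ℤ)) → w ∈ N β := by
    intro β hβ p hp w hw
    rw [hN]
    refine hAD (single_mem_AD ?_)
    have hp' := D.rat_of hp (hPl β hβ)
    have h2 : (Pl β).1 (algebraMap (RatFunc k) K w) = p.1 w ^ 2 := by
      have h1 := D.hpole p β hβ hp'
      have hpos := D.two_pos β hβ
      exact (((D.result p).1 ⟨by omega, by
        rw [h1]; exact ((D.hd β hβ).natCast).neg⟩).2 _ hp).1 w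
    have h3 := D.two_pos β hβ
    rw [map_mul, D.val_y hβ (hPl β hβ), h2]
    calc exp (d β : ℤ) * p.1 w ^ 2 ≤ exp (d β : ℤ) * (exp (-(d β : ℤ))) ^ 2 := by gcongr
      _ = exp (-(d β : ℤ)) := by rw [← exp_nsmul, ← exp_add]; congr 1; simp; ring
      _ ≤ 1 := by rw [← exp_zero, exp_le_exp]; omega
  have h2 : ∀ β ∈ B, β ≠ 0 → ∀ p : Place k (RatFunc k), IsOver (Pl β) p → ∀ w,
      p.1 w ≤ 1 → w ∈ N β := by
    intro β hβ hne p hp w hw
    have hp' := D.rat_of hp (hPl β hβ)
    refine gen hp' (N β) (d β) 0 ?_ ?_ w (by rwa [neg_zero, exp_zero])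
    · intro w hw
      rw [zero_add] at hw
      exact hbig β hβ p hp w hw
    · intro n hn
      lift n to ℕ using hn
      rw [zpow_natCast, hN, map_pow, ← xa_eq]
      exact h1 β hβ n (fun h => absurd h hne)
  have h3 : ∀ m : ℕ, (RatFunc.X - RatFunc.C (0 : k) : RatFunc k) ^ (-(m : ℤ)) ∈ N 0 := by
    intro m
    rw [hN, map_zpow₀, ← xa_eq]
    set g := y * (algebraMap (RatFunc k) K RatFunc.X - algebraMap k K 0) ^ (-(m : ℤ)) with hg
    have hsum := sum_single_mem_W (B.image Pl) (g := g) (by
      intro Q hQ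
      have hQB : ∀ β ∈ B, 1 ≤ Q.1 (algebraMap (RatFunc k) K RatFunc.X - algebraMap k K β) := by
        intro β hβ
        by_contra hcon
        exact hQ (Finset.mem_image.2 ⟨β, hβ, D.place_unique hβ (hPl β hβ) (not_le.1 hcon)⟩)
      rw [hg, map_mul]
      exact mul_le_one' (D.val_y_le_one hQB) (D.val_zpow_le (hQB 0 h0) (by omega)))
    rw [Finset.sum_image (fun α hα β hβ h => D.pl_inj hPl hα hβ h),
      ← Finset.add_sum_erase _ _ h0] at hsum
    have hrest : (∑ β ∈ B.erase 0, (Pi.single (Pl β) g : Place k K → K)) ∈ S := by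
      refine Submodule.sum_mem _ fun β hβ => ?_
      have hβ' := Finset.mem_erase.1 hβ
      obtain ⟨p, hp⟩ := D.exists_below (Pl β)
      have hp' := D.rat_of hp (hPl β hβ'.2)
      have h4 := h2 β hβ'.2 hβ'.1 p hp ((RatFunc.X - RatFunc.C (0 : k) : RatFunc k) ^ (-(m : ℤ))) (by
        rw [map_zpow₀, rat_val_ne hp' hβ'.1.symm, one_zpow])
      rw [hN, map_zpow₀, ← xa_eq] at h4
      exact h4
    have := S.sub_mem (hW hsum) hrest
    rwa [add_sub_cancel_right] at this
  have h4 : ∀ n : ℤ, (RatFunc.X - RatFunc.C (0 : k) : RatFunc k) ^ n ∈ N 0 := by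
    intro n
    rcases le_total n 0 with hn | hn
    · obtain ⟨m, rfl⟩ : ∃ m : ℕ, n = -(m : ℤ) := ⟨(-n).toNat, by omega⟩
      exact h3 m
    · by_cases hn0 : n = 0
      · rw [hn0]; exact h3 0
      · lift n to ℕ using hn
        rw [zpow_natCast, hN, map_pow, ← xa_eq]
        exact h1 0 h0 n (fun _ => by exact_mod_cast hn0)
  obtain ⟨p, hp⟩ := D.exists_below (Pl 0)
  have hp' := D.rat_of hp (hPl 0 h0)
  have h5 : ∀ w, w ∈ N 0 := by
    intro w
    by_cases hw : w = 0
    · rw [hw]; exact (N 0).zero_mem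
    refine gen hp' (N 0) ((p.ord w).natAbs + d 0) (-((p.ord w).natAbs : ℤ)) ?_
      (fun n _ => h4 n) w ?_
    · intro w hw
      apply hbig 0 h0 p hp w
      have e : -(-((p.ord w).natAbs : ℤ)) = ((p.ord w).natAbs : ℤ) := by ring
      refine hw.trans (exp_le_exp.2 ?_)
      push_cast
      omega
    · rw [val_eq_exp p hw, exp_le_exp]
      omega
  have h6 : ∀ h : K, (Pi.single (Pl 0) h : Place k K → K) ∈ S := by
    intro h
    obtain ⟨u, v, rfl⟩ := D.exists_eq h
    rw [Pi.single_add]
    refine S.add_mem (hW (D.single_rat_mem h0 (hPl 0 h0) u)) ?_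
    have := h5 v
    rwa [hN, mul_comm] at this
  -- reduction to one place
  rw [K660.Compare.mem_adele] at ha
  let T : Finset (Place k K) := ha.toFinset.erase (Pl 0)
  obtain ⟨z, hz1, hz2⟩ := K660.LowGenus.strong_approximation hK (Pl 0) T.card
    (fun i => (T.equivFin.symm i : Place k K))
    (fun i j hij => by simpa using hij)
    (by
      rintro ⟨i, hi⟩
      have := (T.equivFin.symm i).2
      rw [show ((T.equivFin.symm i : T) : Place k K) = Pl 0 from hi] at this
      exact (Finset.mem_erase.1 this).1 rfl)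
    (fun i => a (T.equivFin.symm i)) (fun _ => 0)
  have hmem : a - diag k K z - (Pi.single (Pl 0) (a (Pl 0) - z) : Place k K → K) ∈
      AD (0 : Divisor k K) := by
    intro Q
    rw [Finsupp.coe_zero, Pi.zero_apply, exp_zero, Pi.sub_apply, Pi.sub_apply]
    change Q.1 (a Q - z - _) ≤ 1
    by_cases hQ : Q = Pl 0
    · subst hQ
      rw [Pi.single_eq_same, sub_self, map_zero]
      exact zero_le
    · rw [Pi.single_eq_of_ne hQ, sub_zero]
      by_cases hQT : Q ∈ T
      · have := hz1 (T.equivFin ⟨Q, hQT⟩)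
        rw [Equiv.symm_apply_apply, neg_zero, exp_zero] at this
        rw [Valuation.map_sub_swap]
        exact this.le
      · have h7 : Q.1 z ≤ 1 := hz2 Q hQ (by
          rintro ⟨i, hi⟩
          exact hQT (hi ▸ (T.equivFin.symm i).2))
        have h8 : Q.1 (a Q) ≤ 1 := by
          by_contra hcon
          exact hQT (Finset.mem_erase.2 ⟨hQ, ha.mem_toFinset.2 hcon⟩)
        exact Q.1.map_sub_le h8 h7
  have h9 : a = (a - diag k K z - (Pi.single (Pl 0) (a (Pl 0) - z) : Place k K → K)) +
      diag k K z + (Pi.single (Pl 0) (a (Pl 0) - z) : Place k K → K) := by abel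
  rw [h9]
  exact S.add_mem (S.add_mem (hAD hmem) (hW (Submodule.mem_sup_right ⟨z, rfl⟩))) (h6 _)

/-- linear independence -/
theorem linInd_aux (hK : IsFunctionField k K) (h0 : (0 : k) ∈ B) {Pl : k → Place k K}
    (hPl : ∀ β ∈ B, (Pl β).1 (algebraMap (RatFunc k) K RatFunc.X - algebraMap k K β) < 1)
    {ι : Type*} (pt : ι → k) (ex : ι → ℕ) (hinj : ∀ i j, pt i = pt j → ex i = ex j → i = j)
    (hB : ∀ i, pt i ∈ B) (hex : ∀ i, 2 * ex i + 1 ≤ d (pt i)) (hpt : ∀ i, pt i = 0 → ex i ≠ 0) :
    LinearIndependent k (fun i => Submodule.mkQ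
      (AD (0 : Divisor k K) ⊔ LinearMap.range (diag k K))
      (Pi.single (Pl (pt i)) (y * (algebraMap (RatFunc k) K RatFunc.X -
        algebraMap k K (pt i)) ^ ex i) : Place k K → K)) := by
  rw [linearIndependent_iff']
  intro s g hsum
  set v : ι → (Place k K → K) := fun i => Pi.single (Pl (pt i))
    (y * (algebraMap (RatFunc k) K RatFunc.X - algebraMap k K (pt i)) ^ ex i) with hv
  have hmem : (∑ i ∈ s, g i • v i) ∈ AD (0 : Divisor k K) ⊔ LinearMap.range (diag k K) := by
    rw [← Submodule.ker_mkQ (AD (0 : Divisor k K) ⊔ LinearMap.range (diag k K)),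
      LinearMap.mem_ker, map_sum, ← hsum]
    exact Finset.sum_congr rfl fun i _ => map_smul _ _ _
  obtain ⟨w, hw, w', ⟨z, rfl⟩, hwz⟩ := Submodule.mem_sup.1 hmem
  -- the polynomials
  let h : k → Polynomial k := fun β => ∑ i ∈ s with pt i = β, Polynomial.C (g i) * Polynomial.X ^ ex i
  have hval : ∀ β ∈ B, (∑ i ∈ s, g i • v i) (Pl β) =
      y * Polynomial.aeval (algebraMap (RatFunc k) K RatFunc.X - algebraMap k K β) (h β) := by
    intro β hβ
    rw [Finset.sum_apply, map_sum, Finset.mul_sum, Finset.sum_filter]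
    refine Finset.sum_congr rfl fun i _ => ?_
    rw [Pi.smul_apply]
    by_cases hi : pt i = β
    · rw [if_pos hi, hv]
      simp only [hi]
      rw [Pi.single_eq_same, map_mul, Polynomial.aeval_C, map_pow, Polynomial.aeval_X,
        Algebra.smul_def]
      ring
    · rw [if_neg hi, hv]
      simp only
      rw [Pi.single_eq_of_ne (fun h' => hi (D.pl_inj hPl hβ (hB i) h').symm), smul_zero]
  have hval' : ∀ Q : Place k K, (∀ β ∈ B, Q ≠ Pl β) → (∑ i ∈ s, g i • v i) Q = 0 := by
    intro Q hQ
    rw [Finset.sum_apply]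
    refine Finset.sum_eq_zero fun i _ => ?_
    rw [Pi.smul_apply, hv]
    simp only
    rw [Pi.single_eq_of_ne (hQ _ (hB i)), smul_zero]
  have hwQ : ∀ Q : Place k K, Q.1 (w Q) ≤ 1 := by
    intro Q
    have := hw Q
    rwa [Finsupp.coe_zero, Pi.zero_apply, exp_zero] at this
  have hz : ∀ Q : Place k K, z = (∑ i ∈ s, g i • v i) Q - w Q := by
    intro Q
    rw [← hwz]
    change z = w Q + z - w Q
    ring
  obtain ⟨u, e, hue⟩ := D.exists_eq z
  obtain ⟨σ, hσ⟩ := D.exists_aut
  have hσz : σ z - z = algebraMap (RatFunc k) K e := by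
    rw [hue, map_add, map_mul, AlgEquiv.commutes, AlgEquiv.commutes, hσ]
    ring
  have hσx : ∀ (Q : Place k K) (β : k), (K661.Galois.comapEquiv Q σ).1
      (algebraMap (RatFunc k) K RatFunc.X - algebraMap k K β) =
      Q.1 (algebraMap (RatFunc k) K RatFunc.X - algebraMap k K β) := by
    intro Q β
    rw [K661.Galois.comapEquiv_val, xa_eq, AlgEquiv.commutes]
  -- `e` is integral everywhere
  have heint : ∀ Q : Place k K, Q.1 (algebraMap (RatFunc k) K e) ≤ 1 := by
    intro Q
    by_cases hQ : ∃ β ∈ B, Q = Pl β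
    · obtain ⟨β, hβ, rfl⟩ := hQ
      have hfix : K661.Galois.comapEquiv (Pl β) σ = Pl β :=
        D.place_unique hβ (by rw [hσx]; exact hPl β hβ) (hPl β hβ)
      have h1 := hz (Pl β)
      rw [hval β hβ] at h1
      have h2 : Polynomial.aeval (algebraMap (RatFunc k) K RatFunc.X - algebraMap k K β) (h β) =
          algebraMap (RatFunc k) K (Polynomial.aeval (RatFunc.X - RatFunc.C β) (h β)) := by
        rw [xa_eq, Polynomial.aeval_algebraMap_apply]
      have h3 : algebraMap (RatFunc k) K e =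
          Polynomial.aeval (algebraMap (RatFunc k) K RatFunc.X - algebraMap k K β) (h β) -
            σ (w (Pl β)) + w (Pl β) := by
        rw [← hσz, h1, h2, map_sub, map_mul, AlgEquiv.commutes, hσ]
        ring
      rw [h3]
      refine (Pl β).1.map_add_le ((Pl β).1.map_sub_le
        (K666.Basic.Place_aeval_le (Pl β) _ (hPl β hβ).le _) ?_) (hwQ _)
      rw [← K661.Galois.comapEquiv_val, hfix]
      exact hwQ _
    · push Not at hQ
      have h1 : ∀ Q' : Place k K, (∀ β ∈ B, Q' ≠ Pl β) → Q'.1 z ≤ 1 := by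
        intro Q' hQ'
        rw [hz Q', hval' Q' hQ', zero_sub, Valuation.map_neg]
        exact hwQ Q'
      rw [← hσz]
      refine Q.1.map_sub_le ?_ (h1 Q hQ)
      rw [← K661.Galois.comapEquiv_val]
      apply h1
      intro β hβ hQβ
      have h2 := hPl β hβ
      rw [← hQβ, hσx] at h2
      exact hQ β hβ (D.place_unique hβ h2 (hPl β hβ))
  obtain ⟨c, hc⟩ := K660.Places.mem_range_of_forall_le hK heint
  -- the polynomials are all constant
  have hpoly : ∀ β ∈ B, h β = Polynomial.C c := by
    intro β hβ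
    by_contra hne
    set q := h β - Polynomial.C c with hq
    have hq0 : q ≠ 0 := sub_ne_zero.2 hne
    have hdeg : 2 * q.natDegree + 1 ≤ d β := by
      rw [hq, Polynomial.natDegree_sub_C]
      have hpos := D.two_pos β hβ
      have : (h β).natDegree ≤ (d β - 1) / 2 := by
        apply Polynomial.natDegree_sum_le_of_forall_le
        intro i hi
        refine (Polynomial.natDegree_C_mul_X_pow_le _ _).trans ?_
        have h1 := hex i
        rw [(Finset.mem_filter.1 hi).2] at h1
        omega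
      omega
    have hroot : q.rootMultiplicity 0 ≤ q.natDegree := by
      rw [← Polynomial.count_roots]
      exact (Multiset.count_le_card 0 q.roots).trans (Polynomial.card_roots' q)
    have hvq : (Pl β).1 (y * Polynomial.aeval
        (algebraMap (RatFunc k) K RatFunc.X - algebraMap k K β) q) =
        exp ((d β : ℤ) - 2 * q.rootMultiplicity 0) := by
      rw [map_mul, val_aeval_root (hPl β hβ) hq0, D.val_xa hβ (hPl β hβ), D.val_y hβ (hPl β hβ),
        ← exp_nsmul, ← exp_add]
      congr 1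
      simp
      ring
    have h1 := hz (Pl β)
    rw [hval β hβ] at h1
    have h2 : y * Polynomial.aeval
        (algebraMap (RatFunc k) K RatFunc.X - algebraMap k K β) q =
        algebraMap (RatFunc k) K u + w (Pl β) := by
      rw [hq, map_sub, Polynomial.aeval_C, hc]
      linear_combination hue - h1
    have h3 : 1 < (Pl β).1 (algebraMap (RatFunc k) K u + w (Pl β)) := by
      rw [← h2, hvq]
      calc (1 : ℤᵐ⁰) = exp (0 : ℤ) := exp_zero.symm
        _ < _ := by rw [exp_lt_exp]; omega
    have h4 : (Pl β).1 (algebraMap (RatFunc k) K u) =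
        exp ((d β : ℤ) - 2 * q.rootMultiplicity 0) := by
      rw [← hvq, h2]
      have : algebraMap (RatFunc k) K u = (algebraMap (RatFunc k) K u + w (Pl β)) - w (Pl β) := by
        ring
      conv_lhs => rw [this]
      exact Valuation.map_sub_eq_of_lt_left _ ((hwQ _).trans_lt h3)
    obtain ⟨p, hp⟩ := D.exists_below (Pl β)
    have hp' := D.rat_of hp (hPl β hβ)
    have h5 : (Pl β).1 (algebraMap (RatFunc k) K u) = p.1 u ^ 2 := by
      have h1 := D.hpole p β hβ hp'
      have hpos := D.two_pos β hβ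
      exact (((D.result p).1 ⟨by omega, by
        rw [h1]; exact ((D.hd β hβ).natCast).neg⟩).2 _ hp).1 u
    have hu0 : u ≠ 0 := by
      rintro rfl
      rw [map_zero, map_zero] at h4
      exact exp_ne_zero h4.symm
    rw [h5, val_eq_exp p hu0, ← exp_nsmul, exp_inj] at h4
    obtain ⟨m, hm⟩ := D.hd β hβ
    rw [hm] at h4
    simp only [smul_neg, nsmul_eq_mul] at h4
    push_cast at h4
    omega
  have hc0 : c = 0 := by
    have h1 := congrArg (fun q => Polynomial.coeff q 0) (hpoly 0 h0)
    simp only [Polynomial.coeff_C_zero] at h1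
    rw [← h1]
    change Polynomial.coeff (∑ i ∈ s with pt i = 0, Polynomial.C (g i) * Polynomial.X ^ ex i) 0 = 0
    rw [Polynomial.finsetSum_coeff]
    refine Finset.sum_eq_zero fun i hi => ?_
    rw [Polynomial.coeff_C_mul_X_pow, if_neg]
    exact (hpt i (Finset.mem_filter.1 hi).2).symm
  intro i hi
  have h1 := congrArg (fun q => Polynomial.coeff q (ex i)) (hpoly (pt i) (hB i))
  simp only [hc0, Polynomial.C_0, Polynomial.coeff_zero] at h1
  rw [← h1]
  change g i = Polynomial.coeff (∑ j ∈ s with pt j = pt i, Polynomial.C (g j) * Polynomial.X ^ ex j)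
    (ex i)
  rw [Polynomial.finsetSum_coeff, Finset.sum_eq_single i]
  · rw [Polynomial.coeff_C_mul_X_pow, if_pos rfl]
  · intro j hj hne
    rw [Polynomial.coeff_C_mul_X_pow, if_neg]
    intro hex'
    exact hne (hinj j i (Finset.mem_filter.1 hj).2 hex'.symm)
  · intro h'
    have h2 : i ∈ Finset.filter (fun j => pt j = pt i) s := Finset.mem_filter.2 ⟨hi, rfl⟩
    exact absurd h2 h'

end Data

end K671.AS2
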