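import Groth.Agent.FunFld.K671.AS4
import Groth.Agent.FunFld.K667.DiffOrd

/-! Regular differentials for an Artin–Schreier double cover in characteristic two. -/

set_option autoImplicit false
set_option linter.unusedSectionVars false

open Classical

namespace K671.AS2

open FunFld WithZero K671.Basic K667.DiffOrd

section General

variable {k K : Type*} [Field k] [Field K] [Algebra k K]

/-- Linear independence detected by values at places, with a rank function. -/
theorem linInd_of_rank {ι : Type*} (v : ι → K) (rank : ι → ℕ) (pl : ι → Place k K) (n : ι → ℤ)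
    (h1 : ∀ i, (pl i).1 (v i) = exp (n i))
    (h2 : ∀ i j, j ≠ i → rank j ≤ rank i → (pl i).1 (v j) < exp (n i)) :
    LinearIndependent k v := by
  rw [linearIndependent_iff']
  intro s g hsum
  by_contra hcon
  push Not at hcon
  obtain ⟨i₀, hi₀, hgi₀⟩ := hcon
  obtain ⟨i, hi, hmax⟩ := Finset.exists_max_image (s.filter fun i => g i ≠ 0) rank
    ⟨i₀, Finset.mem_filter.2 ⟨hi₀, hgi₀⟩⟩
  obtain ⟨his, hgi⟩ := Finset.mem_filter.1 hi
  have h3 : g i • v i = -∑ j ∈ s.erase i, g j • v j := by
    rw [← Finset.add_sum_erase _ _ his] at hsum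
    linear_combination hsum
  have h4 : (pl i).1 (g i • v i) = exp (n i) := by rw [val_smul _ hgi, h1]
  have h5 : (pl i).1 (∑ j ∈ s.erase i, g j • v j) < exp (n i) := by
    apply Valuation.map_sum_lt _ exp_ne_zero
    intro j hj
    obtain ⟨hji, hjs⟩ := Finset.mem_erase.1 hj
    by_cases hgj : g j = 0
    · rw [hgj, zero_smul, map_zero]
      exact exp_pos
    · rw [val_smul _ hgj]
      exact h2 i j hji (hmax j (Finset.mem_filter.2 ⟨hjs, hgj⟩))
  rw [h3, Valuation.map_neg] at h4
  exact h5.ne h4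

end General

variable {k K : Type*} [Field k] [IsAlgClosed k] [CharP k 2] [Field K] [Algebra k K]
  [Algebra (RatFunc k) K] [IsScalarTower k (RatFunc k) K]

theorem algebraMap_poly (a : Polynomial k) :
    algebraMap (RatFunc k) K (algebraMap (Polynomial k) (RatFunc k) a) =
      Polynomial.aeval (algebraMap (RatFunc k) K RatFunc.X) a := by
  rw [Polynomial.aeval_algebraMap_apply, RatFunc.aeval_X_left_eq_algebraMap]

section D

variable {F : Type*} [Field F] [Algebra k F] {P : Place k K} {φ : K →ₐ[k] LaurentSeries F}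

theorem D_aeval (x : K) (a : Polynomial k) : LocRes.D F (φ (Polynomial.aeval x a)) =
    φ (Polynomial.aeval x (Polynomial.derivative a)) * LocRes.D F (φ x) := by
  have h := (KaehlerDifferential.D k K).map_aeval a x
  rw [← ev_D φ, h, ev_smul, ev_D]

theorem v_D_aeval_le (hφ : LocRes.IsExpansionAt P.1 φ) {x : K} (hx : P.1 x ≤ 1) (a : Polynomial k) :
    Valued.v (LocRes.D F (φ (Polynomial.aeval x a))) ≤ Valued.v (LocRes.D F (φ x)) := by
  rw [D_aeval, map_mul, hφ.1]
  exact mul_le_of_le_one_left' (K666.Basic.Place_aeval_le P x hx _)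

theorem v_D_rat_le (hφ : LocRes.IsExpansionAt P.1 φ) {p : Place k (RatFunc k)} (hp : IsOver P p)
    (hX : p.1 (RatFunc.X : RatFunc k) ≤ 1) {g : RatFunc k} (hg : p.1 g ≤ 1) :
    Valued.v (LocRes.D F (φ (algebraMap (RatFunc k) K g))) ≤
      Valued.v (LocRes.D F (φ (algebraMap (RatFunc k) K RatFunc.X))) := by
  have hx : P.1 (algebraMap (RatFunc k) K RatFunc.X) ≤ 1 := by
    rwa [K661.Place.val_algebraMap_le_one_iff hp]
  have hb0 : algebraMap (Polynomial k) (RatFunc k) g.denom ≠ 0 := by
    rw [Ne, FaithfulSMul.algebraMap_eq_zero_iff]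
    exact RatFunc.denom_ne_zero g
  have hnum : algebraMap (Polynomial k) (RatFunc k) g.num =
      g * algebraMap (Polynomial k) (RatFunc k) g.denom :=
    (div_eq_iff hb0).1 (RatFunc.num_div_denom g)
  have hb1 : p.1 (algebraMap (Polynomial k) (RatFunc k) g.denom) = 1 := by
    refine le_antisymm (K666.RatPl.poly_le p hX _) ?_
    by_contra hcon
    rw [not_le] at hcon
    obtain ⟨u, v, huv⟩ := RatFunc.isCoprime_num_denom g
    have h1 : p.1 (algebraMap (Polynomial k) (RatFunc k) g.num) < 1 := by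
      rw [hnum, map_mul]
      exact lt_of_le_of_lt (mul_le_of_le_one_left' hg) hcon
    have h2 := congrArg (algebraMap (Polynomial k) (RatFunc k)) huv
    rw [map_add, map_mul, map_mul, map_one] at h2
    have h3 : p.1 (1 : RatFunc k) < 1 := by
      rw [← h2]
      refine p.1.map_add_lt ?_ ?_ <;> rw [map_mul]
      · exact lt_of_le_of_lt (mul_le_of_le_one_left' (K666.RatPl.poly_le p hX _)) h1
      · exact lt_of_le_of_lt (mul_le_of_le_one_left' (K666.RatPl.poly_le p hX _)) hcon
    rw [map_one] at h3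
    exact lt_irrefl _ h3
  have e : algebraMap (RatFunc k) K g *
      Polynomial.aeval (algebraMap (RatFunc k) K RatFunc.X) g.denom =
      Polynomial.aeval (algebraMap (RatFunc k) K RatFunc.X) g.num := by
    rw [← algebraMap_poly, ← algebraMap_poly, ← map_mul, ← hnum]
  set x := algebraMap (RatFunc k) K RatFunc.X
  have h1 : LocRes.D F (φ (algebraMap (RatFunc k) K g)) * φ (Polynomial.aeval x g.denom) =
      LocRes.D F (φ (Polynomial.aeval x g.num)) -
        φ (algebraMap (RatFunc k) K g) * LocRes.D F (φ (Polynomial.aeval x g.denom)) := by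
    rw [← e, map_mul, Derivation.leibniz, smul_eq_mul, smul_eq_mul]
    ring
  have h2 : Valued.v (φ (Polynomial.aeval x g.denom)) = 1 := by
    rw [hφ.1, ← algebraMap_poly, K661.Place.val_algebraMap hp, hb1, one_pow]
  have h3 : Valued.v (φ (algebraMap (RatFunc k) K g)) ≤ 1 := by
    rwa [hφ.1, K661.Place.val_algebraMap_le_one_iff hp]
  calc Valued.v (LocRes.D F (φ (algebraMap (RatFunc k) K g))) =
      Valued.v (LocRes.D F (φ (algebraMap (RatFunc k) K g)) * φ (Polynomial.aeval x g.denom)) := by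
        rw [map_mul, h2, mul_one]
    _ ≤ Valued.v (LocRes.D F (φ x)) := by
        rw [h1]
        refine Valuation.map_sub_le _ (v_D_aeval_le hφ hx _) ?_
        rw [map_mul]
        exact (mul_le_of_le_one_left' h3).trans (v_D_aeval_le hφ hx _)

end D

variable [Algebra.IsSeparable (RatFunc k) K]

namespace Data

variable {y : K} {f : RatFunc k} {B : Finset k} {d : k → ℕ} (D : Data y f B d)

include D

variable {F : Type*} [Field F] [Algebra k F] {P : Place k K} {φ : K →ₐ[k] LaurentSeries F}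
  (hφ : LocRes.IsExpansionAt P.1 φ)

include hφ

theorem D_x (α : k) : LocRes.D F (φ (algebraMap (RatFunc k) K RatFunc.X)) =
    LocRes.D F (φ (algebraMap (RatFunc k) K RatFunc.X - algebraMap k K α)) := by
  rw [map_sub, map_sub, LocRes.map_algebraMap, D_C, sub_zero]

theorem vDiff_fin {α : k} (hα : α ∉ B)
    (h : P.1 (algebraMap (RatFunc k) K RatFunc.X - algebraMap k K α) < 1) :
    LocRes.vDiff φ 1 (algebraMap (RatFunc k) K RatFunc.X) = 1 := by
  rw [LocRes.vDiff, D.D_x hφ α]
  exact vDiff_uniformizer hφ (D.val_xa_of_not_mem hα h)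

theorem vDiff_inf (h : 1 < P.1 (algebraMap (RatFunc k) K RatFunc.X)) :
    LocRes.vDiff φ 1 (algebraMap (RatFunc k) K RatFunc.X) = exp (2 : ℤ) := by
  rw [LocRes.vDiff, map_one, one_mul]
  exact v_D_eq (n := 1) (by rw [hφ.1, D.val_x_inf h]) (by simp)

theorem vDiff_ram {α : k} (hα : α ∈ B)
    (h : P.1 (algebraMap (RatFunc k) K RatFunc.X - algebraMap k K α) < 1) :
    LocRes.vDiff φ 1 (algebraMap (RatFunc k) K RatFunc.X) = exp (-((d α : ℤ) + 1)) := by
  rw [LocRes.vDiff, map_one, one_mul]
  obtain ⟨p, hp⟩ := D.exists_below P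
  have hp' := D.rat_of hp h
  have hX := val_X_le hp'.le
  have hch : CharP F 2 := charP_of_injective_algebraMap (algebraMap k F).injective 2
  have hchF : CharP (LaurentSeries F) 2 :=
    charP_of_injective_algebraMap (FaithfulSMul.algebraMap_injective F (LaurentSeries F)) 2
  set T := algebraMap (RatFunc k) K RatFunc.X - algebraMap k K α with hT
  have hvT : Valued.v (φ T) = exp (-2 : ℤ) := by rw [hφ.1, D.val_xa hα h]
  -- derivative of `y`
  have hvy : Valued.v (LocRes.D F (φ y)) = exp ((d α : ℤ) + 1) := by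
    apply v_D_eq
    · rw [hφ.1, D.val_y hα h]
    · obtain ⟨m, hm⟩ := D.hd α hα
      rw [hm]
      push_cast
      have : (2 : F) = 0 := CharTwo.two_eq_zero
      rw [this, zero_mul, zero_add]
      exact one_ne_zero
  have hDf : LocRes.D F (φ (algebraMap (RatFunc k) K f)) = LocRes.D F (φ y) := by
    rw [← D.heq, map_add, map_add, map_pow, Derivation.leibniz_pow]
    have : (2 : ℕ) • (φ y ^ (2 - 1) • LocRes.D F (φ y)) = 0 := by
      rw [nsmul_eq_mul]
      have h2 : ((2 : ℕ) : LaurentSeries F) = 0 := CharP.cast_eq_zero _ 2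
      rw [h2, zero_mul]
    rw [this, zero_add]
  -- the unit `g`
  have hf : p.ord f = -(d α : ℤ) := D.hpole p α hα hp'
  have hpos := D.two_pos α hα
  have hf0 : f ≠ 0 := by
    rintro rfl
    rw [ord_zero] at hf
    omega
  have hvf : p.1 f = exp (d α : ℤ) := by rw [val_eq_exp p hf0, hf, neg_neg]
  set g : RatFunc k := f * (RatFunc.X - RatFunc.C α) ^ (d α) with hg
  have hg1 : p.1 g = 1 := by
    rw [hg, map_mul, map_pow, hvf, rat_val hp', ← exp_nsmul, ← exp_add, ← exp_zero]
    congr 1
    simp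
  have hDg := v_D_rat_le hφ hp hX hg1.le
  have hDX : LocRes.D F (φ (algebraMap (RatFunc k) K RatFunc.X)) = LocRes.D F (φ T) :=
    D.D_x hφ α
  rw [hDX] at hDg ⊢
  have hgK : algebraMap (RatFunc k) K g = algebraMap (RatFunc k) K f * T ^ (d α) := by
    rw [hg, map_mul, map_pow, hT, xa_eq]
  have h1 : LocRes.D F (φ y) * φ T ^ (d α) = LocRes.D F (φ (algebraMap (RatFunc k) K g)) -
      φ (algebraMap (RatFunc k) K f) * ((d α : LaurentSeries F) * φ T ^ (d α - 1) *
        LocRes.D F (φ T)) := by
    rw [hgK, map_mul, Derivation.leibniz, map_pow, Derivation.leibniz_pow, hDf, smul_eq_mul,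
      smul_eq_mul, smul_eq_mul, nsmul_eq_mul]
    ring
  have hvF : Valued.v (φ (algebraMap (RatFunc k) K f)) = exp (2 * (d α : ℤ)) := by
    have h2 : P.1 (algebraMap (RatFunc k) K f) = p.1 f ^ 2 := by
      exact (((D.result p).1 ⟨by omega, by
        rw [hf]; exact ((D.hd α hα).natCast).neg⟩).2 _ hp).1 f
    rw [hφ.1, h2, hvf, ← exp_nsmul]
    rfl
  have hd1 : Valued.v ((d α : LaurentSeries F)) = 1 := by
    obtain ⟨m, hm⟩ := D.hd α hα
    rw [hm]
    push_cast
    have : (2 : LaurentSeries F) = 0 := CharTwo.two_eq_zero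
    rw [this, zero_mul, zero_add, map_one]
  have hl : Valued.v (LocRes.D F (φ y) * φ T ^ (d α)) = exp (1 - (d α : ℤ)) := by
    rw [map_mul, map_pow, hvy, hvT, ← exp_nsmul, ← exp_add]
    congr 1
    simp
    ring
  have hr : Valued.v (φ (algebraMap (RatFunc k) K f) * ((d α : LaurentSeries F) *
      φ T ^ (d α - 1) * LocRes.D F (φ T))) = exp (2 : ℤ) * Valued.v (LocRes.D F (φ T)) := by
    rw [map_mul, map_mul, map_mul, map_pow, hvF, hd1, hvT, one_mul, ← exp_nsmul, ← mul_assoc,
      ← exp_add]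
    congr 2
    simp
    omega
  have hDT0 : Valued.v (LocRes.D F (φ T)) ≠ 0 := by
    intro h0
    rw [h0, mul_zero] at hr
    rw [h0] at hDg
    have h2 : Valued.v (LocRes.D F (φ y) * φ T ^ (d α)) ≤ 0 := by
      rw [h1]
      exact Valuation.map_sub_le _ hDg hr.le
    rw [hl] at h2
    exact exp_ne_zero (le_zero_iff.1 h2)
  obtain ⟨e, he⟩ : ∃ e : ℤ, Valued.v (LocRes.D F (φ T)) = exp e := ⟨_, (exp_log hDT0).symm⟩
  rw [he] at hDg hr ⊢
  have hlt : Valued.v (LocRes.D F (φ (algebraMap (RatFunc k) K g))) < Valued.v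
      (φ (algebraMap (RatFunc k) K f) * ((d α : LaurentSeries F) *
      φ T ^ (d α - 1) * LocRes.D F (φ T))) := by
    rw [hr, ← exp_add]
    refine hDg.trans_lt ?_
    rw [exp_lt_exp]
    omega
  have h2 := Valuation.map_sub_eq_of_lt_right _ hlt
  rw [← h1, hl, hr, ← exp_add, exp_inj] at h2
  rw [exp_inj]
  omega

end Data

end K671.AS2
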