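import Groth.Agent.FunFld.K671.AS5

/-! Regular differentials for an Artin–Schreier double cover in characteristic two: the basis. -/

set_option autoImplicit false
set_option linter.unusedSectionVars false

open Classical

namespace K671.AS2

open FunFld WithZero K671.Basic K667.DiffOrd

section Rat

variable {k : Type*} [Field k] [IsAlgClosed k]

/-- Functions of value at most `exp n` at `p`. -/
def valSub {K : Type*} [Field K] [Algebra k K] (p : Place k K) (n : ℤ) : Submodule k K where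
  carrier := {w | p.1 w ≤ exp n}
  add_mem' ha hb := p.1.map_add_le ha hb
  zero_mem' := by
    change p.1 0 ≤ _
    rw [map_zero]; exact zero_le
  smul_mem' c w hw := by
    change p.1 (c • w) ≤ _
    rw [Algebra.smul_def, map_mul]
    exact (mul_le_of_le_one_left' (p.2.1 c)).trans hw

theorem mem_valSub {K : Type*} [Field K] [Algebra k K] {p : Place k K} {n : ℤ} {w : K} :
    w ∈ valSub p n ↔ p.1 w ≤ exp n := Iff.rfl

theorem exists_inf : ∃ p : Place k (RatFunc k), 1 < p.1 (RatFunc.X : RatFunc k) := by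
  apply K660.Places.exists_pole K666.RatPl.isFunctionField
  rintro ⟨c, hc⟩
  rw [RatFunc.algebraMap_eq_C, ← RatFunc.algebraMap_C, ← RatFunc.algebraMap_X] at hc
  exact Polynomial.X_ne_C c (RatFunc.algebraMap_injective k hc).symm

theorem exists_zero_at (α : k) : ∃ p : Place k (RatFunc k), p.1 (RatFunc.X - RatFunc.C α) < 1 := by
  apply K660.Places.exists_zero K666.RatPl.isFunctionField
  rintro ⟨c, hc⟩
  rw [RatFunc.algebraMap_eq_C, ← RatFunc.algebraMap_C, xsub_eq] at hc
  have := RatFunc.algebraMap_injective k hc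
  have h1 := congrArg Polynomial.natDegree this
  rw [Polynomial.natDegree_C, Polynomial.natDegree_X_sub_C] at h1
  omega

theorem xsub_ne_zero (α : k) : (RatFunc.X - RatFunc.C α : RatFunc k) ≠ 0 := by
  rw [xsub_eq, Ne, FaithfulSMul.algebraMap_eq_zero_iff]
  exact Polynomial.X_sub_C_ne_zero α

/-- Partial fractions. -/
theorem rat_span (B : Finset k) (c : k → ℕ) (u : RatFunc k)
    (hram : ∀ (p : Place k (RatFunc k)) (α : k), α ∈ B → p.1 (RatFunc.X - RatFunc.C α) < 1 →
      p.1 u ≤ exp (c α : ℤ))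
    (hfin : ∀ p : Place k (RatFunc k), (∀ α ∈ B, 1 ≤ p.1 (RatFunc.X - RatFunc.C α)) → p.1 u ≤ 1)
    (hinf : ∀ p : Place k (RatFunc k), 1 < p.1 (RatFunc.X : RatFunc k) → p.1 u ≤ exp (-2 : ℤ))
    (S : Submodule k (RatFunc k))
    (h1 : ∀ α ∈ B, ∀ j : ℕ, 1 ≤ j → j + 1 ≤ c α → (RatFunc.X - RatFunc.C α)⁻¹ ^ (j + 1) ∈ S)
    (h2 : ∀ b ∈ B, b ≠ 0 → RatFunc.C b / (RatFunc.X * (RatFunc.X - RatFunc.C b)) ∈ S)
    (hS : ∀ p : Place k (RatFunc k), 1 < p.1 (RatFunc.X : RatFunc k) → ∀ w ∈ S,
      p.1 w ≤ exp (-2 : ℤ)) : u ∈ S := by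
  let T : k → Submodule k (RatFunc k) := fun α =>
    Submodule.span k {w | ∃ i : ℕ, 1 ≤ i ∧ i ≤ c α ∧ w = (RatFunc.X - RatFunc.C α)⁻¹ ^ i}
  -- values on `T α`
  have hT1 : ∀ (p : Place k (RatFunc k)) (α : k), 1 ≤ p.1 (RatFunc.X - RatFunc.C α) →
      ∀ w ∈ T α, p.1 w ≤ 1 := by
    intro p α hα w hw
    have : T α ≤ valSub p 0 := by
      apply Submodule.span_le.2
      rintro w ⟨i, -, -, rfl⟩
      change p.1 _ ≤ exp 0
      rw [exp_zero, map_pow, map_inv₀]
      exact pow_le_one' (inv_le_one_of_one_le₀ hα) i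
    have h3 := this hw
    rwa [mem_valSub, exp_zero] at h3
  have hTinf : ∀ (p : Place k (RatFunc k)) (α : k), 1 < p.1 (RatFunc.X : RatFunc k) →
      ∀ w ∈ T α, p.1 w ≤ exp (-1 : ℤ) := by
    intro p α hp w hw
    have : T α ≤ valSub p (-1) := by
      apply Submodule.span_le.2
      rintro w ⟨i, hi, -, rfl⟩
      change p.1 _ ≤ exp (-1)
      rw [map_pow, map_inv₀, rat_val_inf hp, ← exp_neg, ← exp_nsmul, exp_le_exp]
      simp only [nsmul_eq_mul]
      omega
    exact this hw
  -- polar parts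
  have hpol : ∀ α ∈ B, ∃ s ∈ T α, ∀ p : Place k (RatFunc k), p.1 (RatFunc.X - RatFunc.C α) < 1 →
      p.1 (u - s) ≤ 1 := by
    intro α hα
    obtain ⟨p, hp⟩ := exists_zero_at α
    have hmem : u ∈ T α ⊔ valSub p 0 := by
      refine gen hp _ (c α) (-(c α : ℤ)) ?_ ?_ u ?_
      · intro w hw
        refine Submodule.mem_sup_right ?_
        rwa [neg_add_cancel, neg_zero] at hw
      · intro n hn
        rcases lt_or_ge n 0 with h | h
        · refine Submodule.mem_sup_left (Submodule.subset_span ⟨(-n).toNat, by omega, by omega, ?_⟩)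
          rw [inv_pow, ← zpow_natCast, ← zpow_neg]
          congr 1
          omega
        · refine Submodule.mem_sup_right ?_
          lift n to ℕ using h
          rw [mem_valSub, zpow_natCast, map_pow, exp_zero]
          exact pow_le_one' hp.le n
      · rw [neg_neg]
        exact hram p α hα hp
    obtain ⟨s, hs, w, hw, hsw⟩ := Submodule.mem_sup.1 hmem
    refine ⟨s, hs, fun p' hp' => ?_⟩
    rw [rat_place_unique hp' hp]
    have : u - s = w := by rw [← hsw]; ring
    rw [this]
    rwa [mem_valSub, exp_zero] at hw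
  choose! s hsT hs using hpol
  set r := u - ∑ α ∈ B, s α with hr
  obtain ⟨pinf, hpinf⟩ := exists_inf (k := k)
  have hrint : ∀ p : Place k (RatFunc k), p.1 r ≤ 1 := by
    intro p
    by_cases hp : ∃ β ∈ B, p.1 (RatFunc.X - RatFunc.C β) < 1
    · obtain ⟨β, hβ, hpβ⟩ := hp
      have e : r = (u - s β) - ∑ α ∈ B.erase β, s α := by
        rw [hr, ← Finset.add_sum_erase _ _ hβ]; ring
      rw [e]
      refine p.1.map_sub_le (hs β hβ p hpβ) (p.1.map_sum_le fun α hα => ?_)
      obtain ⟨hne, hαB⟩ := Finset.mem_erase.1 hα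
      exact hT1 p α (rat_val_ne hpβ hne).ge _ (hsT α hαB)
    · push Not at hp
      exact p.1.map_sub_le (hfin p hp) (p.1.map_sum_le fun α hα => hT1 p α (hp α hα) _ (hsT α hα))
  have hr0 : r = 0 := by
    obtain ⟨c0, hc0⟩ := K660.Places.mem_range_of_forall_le K666.RatPl.isFunctionField hrint
    by_contra hne
    have hc : c0 ≠ 0 := by rintro rfl; rw [map_zero] at hc0; exact hne hc0.symm
    have h3 : pinf.1 r = 1 := by rw [← hc0]; exact Basic.val_algebraMap pinf hc
    have h4 : pinf.1 r ≤ exp (-1 : ℤ) := by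
      refine pinf.1.map_sub_le ((hinf pinf hpinf).trans (exp_le_exp.2 (by norm_num)))
        (pinf.1.map_sum_le fun α hα => hTinf pinf α hpinf _ (hsT α hα))
    rw [h3, ← exp_zero, exp_le_exp] at h4
    omega
  -- everything lies in `S + k X⁻¹`
  have hTS : ∀ α ∈ B, T α ≤ S ⊔ Submodule.span k {(RatFunc.X : RatFunc k)⁻¹} := by
    intro α hα
    apply Submodule.span_le.2
    rintro w ⟨i, hi, hic, rfl⟩
    by_cases hi1 : i = 1
    · subst hi1
      rw [pow_one]
      by_cases hα0 : α = 0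
      · subst hα0
        rw [map_zero, sub_zero]
        exact Submodule.mem_sup_right (Submodule.mem_span_singleton_self _)
      · have e : (RatFunc.X - RatFunc.C α : RatFunc k)⁻¹ =
            RatFunc.C α / (RatFunc.X * (RatFunc.X - RatFunc.C α)) + (RatFunc.X : RatFunc k)⁻¹ := by
          have hX : (RatFunc.X : RatFunc k) ≠ 0 := RatFunc.X_ne_zero
          have hXα := xsub_ne_zero α
          field_simp
          ring
        rw [e]
        exact Submodule.add_mem_sup (h2 α hα hα0) (Submodule.mem_span_singleton_self _)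
    · obtain ⟨j, rfl⟩ : ∃ j, i = j + 1 := ⟨i - 1, by omega⟩
      exact Submodule.mem_sup_left (h1 α hα j (by omega) hic)
  have hu : u ∈ S ⊔ Submodule.span k {(RatFunc.X : RatFunc k)⁻¹} := by
    have : u = ∑ α ∈ B, s α := by rw [← sub_eq_zero]; exact hr0
    rw [this]
    exact Submodule.sum_mem _ fun α hα => hTS α hα (hsT α hα)
  obtain ⟨w, hw, z, hz, hwz⟩ := Submodule.mem_sup.1 hu
  obtain ⟨e, rfl⟩ := Submodule.mem_span_singleton.1 hz
  by_cases he : e = 0
  · rw [he, zero_smul, add_zero] at hwz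
    rwa [← hwz]
  · exfalso
    have h3 : pinf.1 (e • (RatFunc.X : RatFunc k)⁻¹) ≤ exp (-2 : ℤ) := by
      have : e • (RatFunc.X : RatFunc k)⁻¹ = u - w := by rw [← hwz]; ring
      rw [this]
      exact pinf.1.map_sub_le (hinf pinf hpinf) (hS pinf hpinf w hw)
    rw [val_smul _ he, map_inv₀, K666.RatPl.inf_val_X pinf hpinf, ← exp_neg, exp_le_exp] at h3
    omega

end Rat

variable {k K : Type*} [Field k] [IsAlgClosed k] [CharP k 2] [Field K] [Algebra k K]
  [Algebra (RatFunc k) K] [IsScalarTower k (RatFunc k) K] [Algebra.IsSeparable (RatFunc k) K]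

/-- Regularity of `z dx` in terms of values. -/
structure Reg (B : Finset k) (d : k → ℕ) (z : K) : Prop where
  ram : ∀ (P : Place k K) (α : k), α ∈ B →
    P.1 (algebraMap (RatFunc k) K RatFunc.X - algebraMap k K α) < 1 →
    P.1 z ≤ exp ((d α : ℤ) + 1)
  fin : ∀ P : Place k K, (∀ α ∈ B, 1 ≤ P.1 (algebraMap (RatFunc k) K RatFunc.X -
    algebraMap k K α)) → P.1 (algebraMap (RatFunc k) K RatFunc.X) ≤ 1 → P.1 z ≤ 1
  inf : ∀ P : Place k K, 1 < P.1 (algebraMap (RatFunc k) K RatFunc.X) → P.1 z ≤ exp (-2 : ℤ)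

namespace Data

variable {y : K} {f : RatFunc k} {B : Finset k} {d : k → ℕ} (D : Data y f B d)

include D

theorem regular_iff {F : Place k K → Type*} [∀ P, Field (F P)] [∀ P, Algebra k (F P)]
    {φ : ∀ P, K →ₐ[k] LaurentSeries (F P)} (hφ : ∀ P, LocRes.IsExpansionAt P.1 (φ P)) (z : K) :
    (∀ P, LocRes.vDiff (φ P) z (algebraMap (RatFunc k) K RatFunc.X) ≤ 1) ↔ Reg B d z := by
  have key : ∀ P, LocRes.vDiff (φ P) z (algebraMap (RatFunc k) K RatFunc.X) =
      P.1 z * LocRes.vDiff (φ P) 1 (algebraMap (RatFunc k) K RatFunc.X) := by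
    intro P
    rw [vDiff_eq_mul_one, (hφ P).1]
  have hmul : ∀ (g : ℤᵐ⁰) (n : ℤ), g * exp n ≤ 1 ↔ g ≤ exp (-n) := by
    intro g n
    rw [exp_neg, ← le_div_iff₀ exp_pos, one_div]
  constructor
  · intro h
    refine ⟨fun P α hα hP => ?_, fun P hP hx => ?_, fun P hP => ?_⟩
    · have := h P
      rw [key, D.vDiff_ram (hφ P) hα hP, hmul, neg_neg] at this
      exact this
    · obtain ⟨α, hα⟩ := D.exists_center hx
      have hαB : α ∉ B := fun h' => absurd hα (not_lt.2 (hP α h'))
      have := h P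
      rwa [key, D.vDiff_fin (hφ P) hαB hα, mul_one] at this
    · have := h P
      rwa [key, D.vDiff_inf (hφ P) hP, hmul] at this
  · intro h P
    rw [key]
    by_cases hP : 1 < P.1 (algebraMap (RatFunc k) K RatFunc.X)
    · rw [D.vDiff_inf (hφ P) hP, hmul]
      exact h.inf P hP
    · obtain ⟨α, hα⟩ := D.exists_center (not_lt.1 hP)
      by_cases hαB : α ∈ B
      · rw [D.vDiff_ram (hφ P) hαB hα, hmul, neg_neg]
        exact h.ram P α hαB hα
      · rw [D.vDiff_fin (hφ P) hαB hα, mul_one]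
        refine h.fin P (fun β hβ => ?_) (not_lt.1 hP)
        rw [D.val_xa_ne hα (by rintro rfl; exact hαB hβ)]

theorem val_sq {P : Place k K} {p : Place k (RatFunc k)} {α : k} (hα : α ∈ B) (hp : IsOver P p)
    (hP : P.1 (algebraMap (RatFunc k) K RatFunc.X - algebraMap k K α) < 1) (u : RatFunc k) :
    P.1 (algebraMap (RatFunc k) K u) = p.1 u ^ 2 := by
  have hf : p.ord f = -(d α : ℤ) := D.hpole p α hα (D.rat_of hp hP)
  have hpos := D.two_pos α hα
  exact (((D.result p).1 ⟨by omega, by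
    rw [hf]; exact ((D.hd α hα).natCast).neg⟩).2 _ hp).1 u

/-- A regular differential is rational in `x`. -/
theorem exists_rat (hK : IsFunctionField k K) {z : K} (h : Reg B d z) :
    ∃ u : RatFunc k, z = algebraMap (RatFunc k) K u := by
  obtain ⟨σ, hσ⟩ := D.exists_aut
  obtain ⟨u, v, hz⟩ := D.exists_eq z
  have hσz : algebraMap (RatFunc k) K v = σ z - z := by
    rw [hz, map_add, map_mul, AlgEquiv.commutes, AlgEquiv.commutes, hσ]
    ring
  have hσx : ∀ (Q : Place k K) (β : k), (K661.Galois.comapEquiv Q σ).1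
      (algebraMap (RatFunc k) K RatFunc.X - algebraMap k K β) =
      Q.1 (algebraMap (RatFunc k) K RatFunc.X - algebraMap k K β) := by
    intro Q β
    rw [K661.Galois.comapEquiv_val, xa_eq, AlgEquiv.commutes]
  have hσX : ∀ (Q : Place k K), (K661.Galois.comapEquiv Q σ).1
      (algebraMap (RatFunc k) K RatFunc.X) = Q.1 (algebraMap (RatFunc k) K RatFunc.X) := by
    intro Q
    rw [K661.Galois.comapEquiv_val, AlgEquiv.commutes]
  have hvinf : ∀ P : Place k K, 1 < P.1 (algebraMap (RatFunc k) K RatFunc.X) →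
      P.1 (algebraMap (RatFunc k) K v) ≤ exp (-2 : ℤ) := by
    intro P hP
    rw [hσz]
    refine P.1.map_sub_le ?_ (h.inf P hP)
    rw [← K661.Galois.comapEquiv_val]
    exact h.inf _ (by rwa [hσX])
  have hvint : ∀ P : Place k K, P.1 (algebraMap (RatFunc k) K v) ≤ 1 := by
    intro P
    by_cases hP : 1 < P.1 (algebraMap (RatFunc k) K RatFunc.X)
    · refine (hvinf P hP).trans ?_
      rw [← exp_zero, exp_le_exp]
      norm_num
    by_cases hB : ∃ α ∈ B, P.1 (algebraMap (RatFunc k) K RatFunc.X - algebraMap k K α) < 1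
    · obtain ⟨α, hα, hPα⟩ := hB
      obtain ⟨p, hp⟩ := D.exists_below P
      have hsq := D.val_sq hα hp hPα
      by_contra hcon
      rw [not_le] at hcon
      have hv0 : v ≠ 0 := by
        rintro rfl
        rw [map_zero, map_zero] at hcon
        exact absurd hcon (not_lt.2 zero_le)
      have h1 : P.1 (algebraMap (RatFunc k) K v) = exp (2 * (-(p.ord v))) := by
        rw [hsq, val_eq_exp p hv0, ← exp_nsmul]
        congr 1
      have hb : 1 ≤ -(p.ord v) := by
        rw [h1, ← exp_zero, exp_lt_exp] at hcon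
        omega
      have h2 : P.1 (algebraMap (RatFunc k) K v * y) = exp (2 * (-(p.ord v)) + d α) := by
        rw [map_mul, h1, D.val_y hα hPα, ← exp_add]
      have h3 := h.ram P α hα hPα
      have h4 : P.1 (algebraMap (RatFunc k) K u) = exp (2 * (-(p.ord v)) + d α) := by
        have e : algebraMap (RatFunc k) K u = z - algebraMap (RatFunc k) K v * y := by
          rw [hz]; ring
        rw [e, Valuation.map_sub_eq_of_lt_right, h2]
        rw [h2]
        refine h3.trans_lt ?_
        rw [exp_lt_exp]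
        omega
      have hu0 : u ≠ 0 := by
        rintro rfl
        rw [map_zero, map_zero] at h4
        exact exp_ne_zero h4.symm
      rw [hsq, val_eq_exp p hu0, ← exp_nsmul, exp_inj] at h4
      obtain ⟨m, hm⟩ := D.hd α hα
      rw [hm] at h4
      simp only [nsmul_eq_mul] at h4
      push_cast at h4
      omega
    · push Not at hB
      rw [hσz]
      refine P.1.map_sub_le ?_ (h.fin P hB (not_lt.1 hP))
      rw [← K661.Galois.comapEquiv_val]
      exact h.fin _ (fun α hα => by rw [hσx]; exact hB α hα) (by rw [hσX]; exact not_lt.1 hP)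
  have hv : algebraMap (RatFunc k) K v = 0 := by
    obtain ⟨c0, hc0⟩ := K660.Places.mem_range_of_forall_le hK hvint
    by_contra hne
    have hc : c0 ≠ 0 := by rintro rfl; rw [map_zero] at hc0; exact hne hc0.symm
    obtain ⟨P, hP⟩ := K660.Places.exists_pole hK (f := algebraMap (RatFunc k) K RatFunc.X) (by
      rintro ⟨c, hc⟩
      exact xa_ne_zero (k := k) (K := K) c (by rw [hc, sub_self]))
    have h3 := hvinf P hP
    rw [← hc0, Basic.val_algebraMap P hc, ← exp_zero, exp_le_exp] at h3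
    omega
  exact ⟨u, by rw [hz, hv, zero_mul, add_zero]⟩

/-- The regular differentials are spanned by the given ones. -/
theorem mem_of_reg (hK : IsFunctionField k K) (S : Submodule k (RatFunc k))
    (h1 : ∀ α ∈ B, ∀ j : ℕ, 1 ≤ j → 2 * j + 1 ≤ d α → (RatFunc.X - RatFunc.C α)⁻¹ ^ (j + 1) ∈ S)
    (h2 : ∀ b ∈ B, b ≠ 0 → RatFunc.C b / (RatFunc.X * (RatFunc.X - RatFunc.C b)) ∈ S)
    (hS : ∀ p : Place k (RatFunc k), 1 < p.1 (RatFunc.X : RatFunc k) → ∀ w ∈ S,
      p.1 w ≤ exp (-2 : ℤ)) {z : K} (h : Reg B d z) :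
    ∃ u ∈ S, z = algebraMap (RatFunc k) K u := by
  have hfd := D.finite
  obtain ⟨u, rfl⟩ := D.exists_rat hK h
  refine ⟨u, ?_, rfl⟩
  have hover : ∀ p : Place k (RatFunc k), ∃ P : Place k K, IsOver P p := fun p =>
    K666.Ext.exists_over (K' := K) K666.RatPl.isFunctionField p
  refine rat_span B (fun α => (d α + 1) / 2) u ?_ ?_ ?_ S ?_ h2 hS
  · intro p α hα hp
    obtain ⟨P, hP⟩ := hover p
    have hPα : P.1 (algebraMap (RatFunc k) K RatFunc.X - algebraMap k K α) < 1 := by
      rwa [xa_eq, K661.Place.val_algebraMap_lt_one_iff hP]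
    have h3 := h.ram P α hα hPα
    rw [D.val_sq hα hP hPα] at h3
    by_cases hu : u = 0
    · rw [hu, map_zero]; exact zero_le
    rw [val_eq_exp p hu, ← exp_nsmul, exp_le_exp] at h3
    rw [val_eq_exp p hu, exp_le_exp]
    obtain ⟨m, hm⟩ := D.hd α hα
    simp only [nsmul_eq_mul] at h3
    push_cast at h3
    omega
  · intro p hp
    obtain ⟨P, hP⟩ := hover p
    have hB : ∀ α ∈ B, 1 ≤ P.1 (algebraMap (RatFunc k) K RatFunc.X - algebraMap k K α) := by
      intro α hα
      rw [xa_eq, ← not_lt, K661.Place.val_algebraMap_lt_one_iff hP, not_lt]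
      exact hp α hα
    rw [← K661.Place.val_algebraMap_le_one_iff hP]
    by_cases hx : P.1 (algebraMap (RatFunc k) K RatFunc.X) ≤ 1
    · exact h.fin P hB hx
    · refine (h.inf P (not_le.1 hx)).trans ?_
      rw [← exp_zero, exp_le_exp]
      norm_num
  · intro p hp
    obtain ⟨P, hP⟩ := hover p
    have hx : 1 < P.1 (algebraMap (RatFunc k) K RatFunc.X) := by
      rw [← not_le, K661.Place.val_algebraMap_le_one_iff hP, not_le]
      exact hp
    have h3 := h.inf P hx
    rwa [D.unram hP (fun α _ => (D.inf_B hx α).le)] at h3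
  · intro α hα j hj1 hj2
    refine h1 α hα j hj1 ?_
    obtain ⟨m, hm⟩ := D.hd α hα
    omega

end Data

end K671.AS2
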