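import Mathlib.LinearAlgebra.Dimension.Finite
import Mathlib.LinearAlgebra.FiniteDimensional.Basic
import Mathlib.LinearAlgebra.LinearIndependent.Lemmas
import Mathlib.Tactic

/-! Adapted bases for a filtration with one-dimensional steps. -/

namespace K671.Adapted

variable {k W : Type*} [Field k] [AddCommGroup W] [Module k W]

/-- A decreasing filtration `F 0 ⊇ F 1 ⊇ ⋯ ⊇ F N = 0` with steps of dimension at most one has an adapted
basis. -/
theorem exists_adapted (N : ℕ) : ∀ (F : ℕ → Submodule k W) (_ : Antitone F)
    (_ : FiniteDimensional k (F 0))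
    (_ : ∀ n, Module.finrank k (F n) ≤ Module.finrank k (F (n + 1)) + 1) (_ : F N = ⊥),
    ∀ s : ℕ, Module.finrank k (F 0) = s →
    ∃ (m : Fin s → ℕ) (b : Fin s → W), StrictMono m ∧ LinearIndependent k b ∧
      (∀ i, b i ∈ F (m i)) ∧ (∀ i, b i ∉ F (m i + 1)) ∧ (∀ i, m i < N) ∧
      ∑ i, m i = ∑ n ∈ Finset.range N, Module.finrank k (F (n + 1)) := by
  induction N with
  | zero =>
    intro F _ _ _ h0 s hs
    rw [h0, finrank_bot] at hs
    subst hs
    exact ⟨Fin.elim0, Fin.elim0, fun i => i.elim0, linearIndependent_empty_type, fun i => i.elim0,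
      fun i => i.elim0, fun i => i.elim0, by simp⟩
  | succ N ih =>
    intro F hF hfin hstep h0 s hs
    have hle : ∀ n, F n ≤ F 0 := fun n => hF (Nat.zero_le n)
    have hfin1 : FiniteDimensional k (F 1) := Submodule.finiteDimensional_of_le (hle 1)
    obtain ⟨s', hs'⟩ : ∃ s', Module.finrank k (F 1) = s' := ⟨_, rfl⟩
    obtain ⟨m, b, hm, hb, hbF, hbF', hmN, hsum⟩ := ih (fun n => F (n + 1))
      (fun i j hij => hF (Nat.succ_le_succ hij)) hfin1 (fun n => hstep (n + 1)) h0 s' hs'
    have hsum' : ∑ i, (m i + 1) = ∑ n ∈ Finset.range (N + 1), Module.finrank k (F (n + 1)) := by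
      rw [Finset.sum_range_succ', Finset.sum_add_distrib, hsum]
      simp [hs']
    have hle1 : Module.finrank k (F 1) ≤ Module.finrank k (F 0) := Submodule.finrank_mono (hle 1)
    have hst := hstep 0
    rw [zero_add] at hst
    rcases Nat.lt_or_ge (Module.finrank k (F 1)) (Module.finrank k (F 0)) with hlt | hge
    · have hss : s = s' + 1 := by omega
      subst hss
      obtain ⟨x, hx0, hx1⟩ : ∃ x ∈ F 0, x ∉ F 1 := by
        by_contra hcon
        push Not at hcon
        have : F 0 ≤ F 1 := hcon
        have := Submodule.finrank_mono this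
        omega
      refine ⟨Fin.cons 0 (fun i => m i + 1), Fin.cons x b, ?_, ?_, ?_, ?_, ?_, ?_⟩
      · intro i j hij
        refine Fin.cases ?_ (fun j => ?_) j hij
        · intro h; exact absurd h (Fin.not_lt_zero _)
        · refine Fin.cases ?_ (fun i => ?_) i
          · intro _; simp
          · intro h
            simpa using hm (by simpa using h)
      · rw [linearIndependent_finCons]
        refine ⟨hb, fun hx => hx1 ?_⟩
        refine Submodule.span_le.2 ?_ hx
        rintro _ ⟨i, rfl⟩
        exact hF (by omega : 1 ≤ m i + 1) (hbF i)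
      · intro i
        refine Fin.cases ?_ (fun i => ?_) i
        · simpa using hx0
        · simpa using hbF i
      · intro i
        refine Fin.cases ?_ (fun i => ?_) i
        · simpa using hx1
        · simpa using hbF' i
      · intro i
        refine Fin.cases ?_ (fun i => ?_) i
        · simp
        · simpa using hmN i
      · rw [Fin.sum_univ_succ]
        simpa using hsum'
    · have hss : s = s' := by omega
      subst hss
      refine ⟨fun i => m i + 1, b, ?_, hb, ?_, ?_, ?_, hsum'⟩
      · intro i j hij
        have := hm hij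
        simp only
        omega
      · intro i; exact hbF i
      · intro i; exact hbF' i
      · intro i
        have := hmN i
        simp only
        omega

end K671.Adapted
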