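import Groth.Agent.FunFld.K671.RatPlucker

/-! Numerical bookkeeping along a backbone of rational components. -/

namespace K671.Backbone

open FunFld K671.Basic K671.Limit K671.RatPlucker

section Num

variable {N : ℕ}

/-- number of marked indices below `m`. -/
def below (T : Finset (Fin (N + 1))) (m : ℕ) : ℕ := (T.filter fun j : Fin (N + 1) => (j : ℕ) < m).card

/-- number of marked indices above `m`. -/
def above (T : Finset (Fin (N + 1))) (m : ℕ) : ℕ := (T.filter fun j : Fin (N + 1) => m < (j : ℕ)).card

theorem below_zero (T : Finset (Fin (N + 1))) : below T 0 = 0 := by simp [below]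

theorem below_succ (T : Finset (Fin (N + 1))) (m : Fin (N + 1)) :
    below T ((m : ℕ) + 1) = below T m + if m ∈ T then 1 else 0 := by
  classical
  unfold below
  have h : (T.filter fun j : Fin (N + 1) => (j : ℕ) < (m : ℕ) + 1) =
      (T.filter fun j : Fin (N + 1) => (j : ℕ) < m) ∪ (if m ∈ T then {m} else ∅ : Finset (Fin (N + 1))) := by
    ext j
    simp only [Finset.mem_filter, Finset.mem_union]
    constructor
    · rintro ⟨h1, h2⟩
      rcases Nat.lt_or_ge (j : ℕ) m with h3 | h3
      · exact Or.inl ⟨h1, h3⟩
      · have : j = m := Fin.ext (by omega)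
        subst this
        rw [if_pos h1]
        exact Or.inr (Finset.mem_singleton_self _)
    · rintro (⟨h1, h2⟩ | h1)
      · exact ⟨h1, by omega⟩
      · split_ifs at h1 with h2
        · rw [Finset.mem_singleton] at h1
          subst h1
          exact ⟨h2, by omega⟩
        · exact absurd h1 (Finset.notMem_empty _)
  rw [h, Finset.card_union_of_disjoint]
  · split_ifs <;> simp
  · rw [Finset.disjoint_left]
    intro j h1 h2
    split_ifs at h2
    · rw [Finset.mem_singleton] at h2
      subst h2
      simp at h1
    · exact absurd h2 (Finset.notMem_empty _)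

theorem above_pred (T : Finset (Fin (N + 1))) (i : ℕ) (m : Fin (N + 1)) (hm : (m : ℕ) = i + 1) :
    above T i = above T (i + 1) + if m ∈ T then 1 else 0 := by
  classical
  unfold above
  have h : (T.filter fun j : Fin (N + 1) => i < (j : ℕ)) =
      (T.filter fun j : Fin (N + 1) => i + 1 < (j : ℕ)) ∪ (if m ∈ T then {m} else ∅ : Finset (Fin (N + 1))) := by
    ext j
    simp only [Finset.mem_filter, Finset.mem_union]
    constructor
    · rintro ⟨h1, h2⟩
      rcases Nat.lt_or_ge (i + 1) (j : ℕ) with h3 | h3
      · exact Or.inl ⟨h1, h3⟩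
      · have : j = m := Fin.ext (by omega)
        subst this
        rw [if_pos h1]
        exact Or.inr (Finset.mem_singleton_self _)
    · rintro (⟨h1, h2⟩ | h1)
      · exact ⟨h1, by omega⟩
      · split_ifs at h1 with h2
        · rw [Finset.mem_singleton] at h1
          subst h1
          exact ⟨h2, by omega⟩
        · exact absurd h1 (Finset.notMem_empty _)
  rw [h, Finset.card_union_of_disjoint]
  · split_ifs <;> simp
  · rw [Finset.disjoint_left]
    intro j h1 h2
    split_ifs at h2
    · rw [Finset.mem_singleton] at h2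
      subst h2
      rw [Finset.mem_filter] at h1
      omega
    · exact absurd h2 (Finset.notMem_empty _)

theorem card_eq (T : Finset (Fin (N + 1))) (i : Fin (N + 1)) :
    T.card = below T i + above T i + if i ∈ T then 1 else 0 := by
  classical
  have h1 := Finset.card_filter_add_card_filter_not (s := T) (fun j : Fin (N + 1) => (j : ℕ) < (i : ℕ))
  have h2 : (T.filter fun j : Fin (N + 1) => ¬ (j : ℕ) < (i : ℕ)) =
      (T.filter fun j : Fin (N + 1) => (i : ℕ) < (j : ℕ)) ∪ (if i ∈ T then {i} else ∅ : Finset (Fin (N + 1))) := by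
    ext j
    simp only [Finset.mem_filter, Finset.mem_union]
    constructor
    · rintro ⟨g1, g2⟩
      rcases Nat.lt_or_ge (i : ℕ) (j : ℕ) with h3 | h3
      · exact Or.inl ⟨g1, h3⟩
      · have : j = i := Fin.ext (by omega)
        rw [this] at g1 ⊢
        rw [if_pos g1]
        exact Or.inr (Finset.mem_singleton_self _)
    · rintro (⟨h1, h2⟩ | h1)
      · exact ⟨h1, by omega⟩
      · split_ifs at h1 with h2
        · rw [Finset.mem_singleton] at h1
          subst h1
          exact ⟨h2, by omega⟩
        · exact absurd h1 (Finset.notMem_empty _)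
  have h3 : (T.filter fun j : Fin (N + 1) => ¬ (j : ℕ) < (i : ℕ)).card = above T i + if i ∈ T then 1 else 0 := by
    rw [h2, Finset.card_union_of_disjoint]
    · unfold above
      split_ifs <;> simp
    · rw [Finset.disjoint_left]
      intro j h1 h2
      split_ifs at h2
      · rw [Finset.mem_singleton] at h2
        subst h2
        simp at h1
      · exact absurd h2 (Finset.notMem_empty _)
  rw [h3] at h1
  rw [← h1]
  unfold below
  omega

theorem card_erase_eq (T : Finset (Fin (N + 1))) (i : Fin (N + 1)) :
    (T.erase i).card = below T i + above T i := by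
  classical
  have h := card_eq T i
  by_cases hi : i ∈ T
  · rw [if_pos hi] at h
    have := Finset.card_erase_add_one hi
    omega
  · rw [if_neg hi] at h
    rw [Finset.erase_eq_of_notMem hi]
    omega

theorem low {G r : ℕ} (a b q : Fin (N + 1) → ℕ) (T : Finset (Fin (N + 1)))
    (hcomp : ∀ l : Fin N, b l.castSucc + a l.succ = G)
    (hle : ∀ i : Fin (N + 1), (if 0 < (i : ℕ) then a i else 0) + (if (i : ℕ) < N then b i else 0) +
      (if i ∈ T then q i else 0) ≤ G)
    (hq : ∀ i ∈ T, r ≤ q i) :
    ∀ (m : ℕ) (hm : m < N + 1), 0 < m → r * below T m ≤ a ⟨m, hm⟩ := by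
  intro m
  induction m with
  | zero => intro _ h; exact absurd h (lt_irrefl _)
  | succ m ih =>
    intro hm _
    have h1 := hcomp ⟨m, by omega⟩
    rw [Fin.castSucc_mk, Fin.succ_mk] at h1
    have h2 := hle ⟨m, by omega⟩
    simp only at h2
    rw [if_pos (by omega : m < N)] at h2
    have h3 := below_succ T (⟨m, by omega⟩ : Fin (N + 1))
    simp only at h3
    rw [h3, mul_add]
    have h4 : r * (if (⟨m, by omega⟩ : Fin (N + 1)) ∈ T then 1 else 0) ≤
        if (⟨m, by omega⟩ : Fin (N + 1)) ∈ T then q ⟨m, by omega⟩ else 0 := by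
      split_ifs with h
      · rw [mul_one]; exact hq _ h
      · simp
    have h5 : r * below T m ≤ if 0 < m then a ⟨m, by omega⟩ else 0 := by
      split_ifs with h
      · exact ih (by omega) h
      · have : m = 0 := by omega
        subst this
        rw [below_zero, mul_zero]
    omega

theorem high {G r : ℕ} (a b q : Fin (N + 1) → ℕ) (T : Finset (Fin (N + 1)))
    (hcomp : ∀ l : Fin N, b l.castSucc + a l.succ = G)
    (hle : ∀ i : Fin (N + 1), (if 0 < (i : ℕ) then a i else 0) + (if (i : ℕ) < N then b i else 0) +
      (if i ∈ T then q i else 0) ≤ G)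
    (hq : ∀ i ∈ T, r ≤ q i) :
    ∀ (l m : ℕ) (hm : m < N + 1), m + l + 1 = N → r * above T m ≤ b ⟨m, hm⟩ := by
  intro l
  induction l with
  | zero =>
    intro m hm hN
    have h1 := hcomp ⟨m, by omega⟩
    rw [Fin.castSucc_mk, Fin.succ_mk] at h1
    have h2 := hle ⟨m + 1, by omega⟩
    simp only at h2
    rw [if_pos (by omega : 0 < m + 1), if_neg (by omega : ¬ m + 1 < N)] at h2
    rw [above_pred T m ⟨m + 1, by omega⟩ rfl, mul_add]
    have h3 : above T (m + 1) = 0 := by
      unfold above
      rw [Finset.card_eq_zero, Finset.filter_eq_empty_iff]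
      intro j _
      have := j.2
      omega
    have h4 : r * (if (⟨m + 1, by omega⟩ : Fin (N + 1)) ∈ T then 1 else 0) ≤
        if (⟨m + 1, by omega⟩ : Fin (N + 1)) ∈ T then q ⟨m + 1, by omega⟩ else 0 := by
      split_ifs with h
      · rw [mul_one]; exact hq _ h
      · simp
    rw [h3, mul_zero]
    omega
  | succ l ih =>
    intro m hm hN
    have h1 := hcomp ⟨m, by omega⟩
    rw [Fin.castSucc_mk, Fin.succ_mk] at h1
    have h2 := hle ⟨m + 1, by omega⟩
    simp only at h2
    rw [if_pos (by omega : 0 < m + 1), if_pos (by omega : m + 1 < N)] at h2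
    rw [above_pred T m ⟨m + 1, by omega⟩ rfl, mul_add]
    have h3 := ih (m + 1) (by omega) (by omega)
    have h4 : r * (if (⟨m + 1, by omega⟩ : Fin (N + 1)) ∈ T then 1 else 0) ≤
        if (⟨m + 1, by omega⟩ : Fin (N + 1)) ∈ T then q ⟨m + 1, by omega⟩ else 0 := by
      split_ifs with h
      · rw [mul_one]; exact hq _ h
      · simp
    omega

/-- Sum over optional distinct points. -/
theorem four {X : Type*} (f : X → ℕ) (G : ℕ) (hG : ∀ S : Finset X, ∑ x ∈ S, f x ≤ G)
    (a b c e : X) (pa pb pc pe : Prop) [Decidable pa] [Decidable pb] [Decidable pc] [Decidable pe]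
    (hab : pa → pb → a ≠ b) (hac : pa → pc → a ≠ c) (hae : pa → pe → a ≠ e)
    (hbc : pb → pc → b ≠ c) (hbe : pb → pe → b ≠ e) (hce : pc → pe → c ≠ e) :
    (if pa then f a else 0) + (if pb then f b else 0) + (if pc then f c else 0) +
      (if pe then f e else 0) ≤ G := by
  classical
  have key : ∀ (p : Prop) [Decidable p] (x : X),
      (if p then f x else 0) = ∑ y ∈ (if p then {x} else ∅ : Finset X), f y := by
    intro p _ x
    split_ifs <;> simp
  rw [key pa a, key pb b, key pc c, key pe e, ← Finset.sum_union, ← Finset.sum_union,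
    ← Finset.sum_union]
  · exact hG _
  · rw [Finset.disjoint_left]
    intro y h1 h2
    split_ifs at h2 with he
    · rw [Finset.mem_singleton] at h2
      subst h2
      simp only [Finset.mem_union] at h1
      rcases h1 with (h1 | h1) | h1
      · split_ifs at h1 with h
        · exact hae h he (Finset.mem_singleton.1 h1).symm
        · exact absurd h1 (Finset.notMem_empty _)
      · split_ifs at h1 with h
        · exact hbe h he (Finset.mem_singleton.1 h1).symm
        · exact absurd h1 (Finset.notMem_empty _)
      · split_ifs at h1 with h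
        · exact hce h he (Finset.mem_singleton.1 h1).symm
        · exact absurd h1 (Finset.notMem_empty _)
    · exact absurd h2 (Finset.notMem_empty _)
  · rw [Finset.disjoint_left]
    intro y h1 h2
    split_ifs at h2 with he
    · rw [Finset.mem_singleton] at h2
      subst h2
      simp only [Finset.mem_union] at h1
      rcases h1 with h1 | h1
      · split_ifs at h1 with h
        · exact hac h he (Finset.mem_singleton.1 h1).symm
        · exact absurd h1 (Finset.notMem_empty _)
      · split_ifs at h1 with h
        · exact hbc h he (Finset.mem_singleton.1 h1).symm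
        · exact absurd h1 (Finset.notMem_empty _)
    · exact absurd h2 (Finset.notMem_empty _)
  · rw [Finset.disjoint_left]
    intro y h1 h2
    split_ifs at h2 with he
    · rw [Finset.mem_singleton] at h2
      subst h2
      split_ifs at h1 with h
      · exact hab h he (Finset.mem_singleton.1 h1).symm
      · exact absurd h1 (Finset.notMem_empty _)
    · exact absurd h2 (Finset.notMem_empty _)

/-- A sequence with drops at most one going to zero has large sum. -/
theorem sum_ge (M : ℕ) : ∀ (a : ℕ → ℕ) (_ : ∀ n, a n ≤ a (n + 1) + 1) (_ : a M = 0),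
    a 0 * (a 0 + 1) ≤ 2 * ∑ n ∈ Finset.range M, a n := by
  induction M with
  | zero => intro a _ h0; simp [h0]
  | succ M ih =>
    intro a ha h0
    have h1 := ih (fun n => a (n + 1)) (fun n => ha (n + 1)) h0
    rw [Finset.sum_range_succ']
    have h2 := ha 0
    rw [zero_add] at h2 h1
    have h3 : a 0 * (a 0 + 1) ≤ a 1 * (a 1 + 1) + 2 * a 0 := by
      rcases Nat.eq_zero_or_pos (a 0) with h | h
      · rw [h]; omega
      · obtain ⟨c, hc⟩ := Nat.exists_eq_add_of_lt h
        rw [zero_add] at hc
        rw [hc]
        have : c ≤ a 1 := by omega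
        nlinarith [Nat.mul_le_mul this (Nat.succ_le_succ this)]
    omega

end Num

section Series

variable {k : Type*} [Field k] [IsAlgClosed k]

/-- The weight of a linear series at a place (the ramification weight). -/
noncomputable def ex {K : Type*} [Field K] [Algebra k K] (D : Divisor k K) (V : Submodule k K)
    (d r : ℕ) (P : Place k K) : ℕ := wt D V P d - r * (r + 1) / 2

variable {K : Type*} [Field K] [Algebra k K]

theorem ex_add (hK : IsFunctionField k K) {D : Divisor k K} {d : ℕ} (hD : D.deg = d)
    {V : Submodule k K} (hV : V ≤ L D) {r : ℕ} (hVr : Module.finrank k ↥V = r + 1) (P : Place k K) :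
    ex D V d r P + r * (r + 1) / 2 = wt D V P d := by
  have h1 := tri_le_wt hK hD hV hVr P
  have h2 := WronskPoly.two_mul_tri r
  unfold ex
  omega

/-- The sum of the ramification weights in genus zero. -/
theorem sum_ex_le [CharZero k] (hK : IsFunctionField k K) (hg : genus k K = 0) {D : Divisor k K}
    {d : ℕ} (hD : D.deg = d) {V : Submodule k K} (hV : V ≤ L D) {r : ℕ}
    (hVr : Module.finrank k ↥V = r + 1) (S : Finset (Place k K)) :
    ∑ P ∈ S, ex D V d r P ≤ (r + 1) * d - r * (r + 1) := by
  have h1 := plucker hK hg hD hV hVr S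
  have h2 : ∑ P ∈ S, (ex D V d r P + r * (r + 1) / 2) = ∑ P ∈ S, wt D V P d :=
    Finset.sum_congr rfl fun P _ => ex_add hK hD hV hVr P
  rw [Finset.sum_add_distrib, Finset.sum_const, smul_eq_mul] at h2
  omega

theorem r_le_d [CharZero k] (hK : IsFunctionField k K) (hg : genus k K = 0) {D : Divisor k K}
    {d : ℕ} (hD : D.deg = d) {V : Submodule k K} (hV : V ≤ L D) {r : ℕ}
    (hVr : Module.finrank k ↥V = r + 1) : r * (r + 1) ≤ (r + 1) * d := by
  have h1 := plucker hK hg hD hV hVr ∅
  simpa using h1

/-- A cusp has weight at least `r`. -/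
theorem le_ex_of_cusp (hK : IsFunctionField k K) {D : Divisor k K} {d : ℕ} (hD : D.deg = d)
    {V : Submodule k K} {r : ℕ} (hVr : Module.finrank k ↥V = r + 1)
    (P : Place k K) (hcusp : r ≤ vd D V P 2) : r ≤ ex D V d r P := by
  have hfin := finite_of_finrank hVr
  have hend : vd D V P ((d : ℤ) + 1) = 0 := by
    apply vd_eq_zero hK
    rw [hD, place_deg_eq_one hK P]
    push_cast
    omega
  have h2 := two_mul_half r
  suffices h : r + r * (r + 1) / 2 ≤ wt D V P d by unfold ex; omega
  unfold wt
  rcases Nat.eq_zero_or_pos d with rfl | hd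
  · have h3 : vd D V P 2 ≤ vd D V P (((0 : ℕ) : ℤ) + 1) := vd_anti P (by norm_num)
    rw [hend] at h3
    have : r = 0 := by omega
    subst this
    simp
  · obtain ⟨e, rfl⟩ := Nat.exists_eq_add_of_lt hd
    rw [zero_add, Finset.sum_range_succ']
    have h3 := sum_ge e (fun n => vd D V P ((n : ℤ) + 2))
      (fun n => by
        have := vd_le_succ (V := V) (D := D) hK P (n := (n : ℤ) + 2) (by omega)
        push_cast
        convert this using 3
        ring)
      (by
        convert hend using 2
        push_cast
        ring)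
    have h4 : r * (r + 1) ≤ vd D V P 2 * (vd D V P 2 + 1) :=
      Nat.mul_le_mul hcusp (Nat.succ_le_succ hcusp)
    have h5 : vd D V P 2 ≤ vd D V P (((0 : ℕ) : ℤ) + 1) := vd_anti P (by norm_num)
    have h6 : ∀ n : ℕ, (((n + 1 : ℕ) : ℤ) + 1) = (n : ℤ) + 2 := by intro n; push_cast; ring
    simp only [h6]
    simp only [Nat.cast_zero, zero_add] at h3 h5 ⊢
    omega

theorem ex_add_ex_of_compat {KZ : Type*} [Field KZ] [Algebra k KZ]
    (hK : IsFunctionField k K) (hKZ : IsFunctionField k KZ)
    {DY : Divisor k K} {VY : Submodule k K} {P : Place k K}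
    {DZ : Divisor k KZ} {VZ : Submodule k KZ} {Q : Place k KZ} {d r : ℕ}
    (hDY : DY.deg = d) (hDZ : DZ.deg = d)
    (hVY : VY ≤ L DY) (hVZ : VZ ≤ L DZ)
    (hVYr : Module.finrank k ↥VY = r + 1) (hVZr : Module.finrank k ↥VZ = r + 1)
    (h : Compat DY VY P DZ VZ Q d r) :
    ex DY VY d r P + ex DZ VZ d r Q = (r + 1) * d - r * (r + 1) := by
  have h1 := h.wt_add
  have h2 := ex_add hK hDY hVY hVYr P
  have h3 := ex_add hKZ hDZ hVZ hVZr Q
  have h4 := two_mul_half r
  omega

end Series

end K671.Backbone
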