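import Groth.Agent.FunFld.K671.Black
import Mathlib.FieldTheory.IsAlgClosed.Basic
import Mathlib.LinearAlgebra.Dimension.Finite
import Mathlib.LinearAlgebra.FiniteDimensional.Basic
import Mathlib.Tactic

/-! Basic facts on places, divisors and the spaces `L(D)` of a function field of one variable. -/

namespace K671.Basic

open FunFld WithZero

section Gen
variable {k K : Type*} [Field k] [Field K] [Algebra k K]

theorem val_eq_exp (P : Place k K) {x : K} (hx : x ≠ 0) : P.1 x = exp (-(P.ord x)) := by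
  have h0 : P.1 x ≠ 0 := (Valuation.ne_zero_iff _).2 hx
  rw [Place.ord, neg_neg, exp_log h0]

theorem ord_of_val_eq (P : Place k K) {x : K} {n : ℤ} (h : P.1 x = exp n) : P.ord x = -n := by
  rw [Place.ord, h, log_exp]

@[simp] theorem ord_zero (P : Place k K) : P.ord 0 = 0 := by simp [Place.ord]

@[simp] theorem ord_one (P : Place k K) : P.ord 1 = 0 := by simp [Place.ord]

theorem ord_mul (P : Place k K) {x y : K} (hx : x ≠ 0) (hy : y ≠ 0) :
    P.ord (x * y) = P.ord x + P.ord y := by
  apply neg_injective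
  rw [← exp_inj, ← val_eq_exp P (mul_ne_zero hx hy), map_mul, val_eq_exp P hx, val_eq_exp P hy,
    ← exp_add]
  congr 1; ring

theorem ord_inv (P : Place k K) (x : K) : P.ord x⁻¹ = -(P.ord x) := by
  simp [Place.ord, log_inv]

theorem ord_div (P : Place k K) {x y : K} (hx : x ≠ 0) (hy : y ≠ 0) :
    P.ord (x / y) = P.ord x - P.ord y := by
  rw [div_eq_mul_inv, ord_mul P hx (inv_ne_zero hy), ord_inv]; ring

theorem ord_pow (P : Place k K) (x : K) (n : ℕ) : P.ord (x ^ n) = n * P.ord x := by
  simp [Place.ord, map_pow, log_pow]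

theorem ord_zpow (P : Place k K) (x : K) (n : ℤ) : P.ord (x ^ n) = n * P.ord x := by
  simp [Place.ord, map_zpow₀, log_zpow]

theorem val_algebraMap (P : Place k K) {c : k} (hc : c ≠ 0) : P.1 (algebraMap k K c) = 1 := by
  apply le_antisymm (P.2.1 c)
  have h := P.2.1 c⁻¹
  have h2 : P.1 (algebraMap k K c) * P.1 (algebraMap k K c⁻¹) = 1 := by
    rw [← map_mul, ← map_mul, mul_inv_cancel₀ hc, map_one, map_one]
  calc (1 : ℤᵐ⁰) = P.1 (algebraMap k K c) * P.1 (algebraMap k K c⁻¹) := h2.symm
    _ ≤ P.1 (algebraMap k K c) * 1 := by gcongr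
    _ = _ := mul_one _

theorem ord_algebraMap (P : Place k K) (c : k) : P.ord (algebraMap k K c) = 0 := by
  by_cases hc : c = 0
  · simp [hc]
  · rw [Place.ord, val_algebraMap P hc]; simp

theorem val_smul (P : Place k K) {c : k} (hc : c ≠ 0) (x : K) : P.1 (c • x) = P.1 x := by
  rw [Algebra.smul_def, map_mul, val_algebraMap P hc, one_mul]

theorem ord_smul (P : Place k K) {c : k} (hc : c ≠ 0) (x : K) : P.ord (c • x) = P.ord x := by
  rw [Place.ord, Place.ord, val_smul P hc]

theorem exists_uniformizer (P : Place k K) : ∃ t : K, P.1 t = exp (-1 : ℤ) := P.2.2 _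

theorem ord_le_iff (P : Place k K) {x : K} (hx : x ≠ 0) (n : ℤ) :
    P.1 x ≤ exp (-n) ↔ n ≤ P.ord x := by
  rw [val_eq_exp P hx, exp_le_exp]; omega

theorem val_le_one_iff (P : Place k K) (x : K) : P.1 x ≤ 1 ↔ 0 ≤ P.ord x := by
  by_cases hx : x = 0
  · simp [hx]
  · have h := ord_le_iff P hx 0
    rwa [neg_zero, exp_zero] at h

theorem val_lt_one_iff (P : Place k K) {x : K} (hx : x ≠ 0) : P.1 x < 1 ↔ 0 < P.ord x := by
  have h : P.1 x < exp (0 : ℤ) ↔ 0 < P.ord x := by
    rw [val_eq_exp P hx, exp_lt_exp]; omega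
  rwa [exp_zero] at h

/-! ### The degree -/

@[simp] theorem deg_zero : (0 : Divisor k K).deg = 0 := by simp [Divisor.deg]

theorem deg_add (D E : Divisor k K) : (D + E).deg = D.deg + E.deg := by
  classical
  unfold Divisor.deg
  rw [Finsupp.sum_add_index']
  · simp
  · intros; ring

theorem deg_neg (D : Divisor k K) : (-D).deg = -D.deg := by
  have := deg_add D (-D)
  rw [add_neg_cancel, deg_zero] at this
  omega

theorem deg_sub (D E : Divisor k K) : (D - E).deg = D.deg - E.deg := by
  rw [sub_eq_add_neg, deg_add, deg_neg]; ring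

@[simp] theorem deg_single (P : Place k K) (n : ℤ) :
    Divisor.deg (Finsupp.single P n) = n * P.deg := by
  simp [Divisor.deg]

/-! ### `L(D)` -/

theorem mem_L {D : Divisor k K} {x : K} : x ∈ L D ↔ ∀ P : Place k K, P.1 x ≤ exp (D P) := Iff.rfl

theorem L_mono {D E : Divisor k K} (h : D ≤ E) : L D ≤ L E := fun _ hx P =>
  (hx P).trans (exp_le_exp.2 (h P))

theorem mem_L_iff_ord {D : Divisor k K} {x : K} (hx : x ≠ 0) :
    x ∈ L D ↔ ∀ P : Place k K, -(D P) ≤ P.ord x := by
  rw [mem_L]
  refine forall_congr' fun P => ?_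
  rw [← ord_le_iff P hx, neg_neg]

/-- Membership in `L(D - n P)` for `x ∈ L(D)`. -/
theorem mem_L_sub_single {D : Divisor k K} {P : Place k K} {n : ℤ} {x : K} (hn : 0 ≤ n) :
    x ∈ L (D - Finsupp.single P n) ↔ x ∈ L D ∧ P.1 x ≤ exp (D P - n) := by
  classical
  rw [mem_L, mem_L]
  constructor
  · intro h
    refine ⟨fun Q => (h Q).trans (exp_le_exp.2 ?_), ?_⟩
    · rw [Finsupp.sub_apply, Finsupp.single_apply]
      split_ifs <;> omega
    · simpa using h P
  · rintro ⟨h1, h2⟩ Q
    rw [Finsupp.sub_apply, Finsupp.single_apply]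
    split_ifs with h
    · subst h; exact h2
    · simpa using h1 Q

/-- Intersection of the conditions at two distinct places. -/
theorem L_inf_L {D : Divisor k K} {P Q : Place k K} (hPQ : P ≠ Q) {m n : ℤ}
    (hn : 0 ≤ n) {x : K} (h1 : x ∈ L (D - Finsupp.single P m)) (h2 : x ∈ L (D - Finsupp.single Q n)) :
    x ∈ L (D - Finsupp.single P m - Finsupp.single Q n) := by
  classical
  rw [mem_L_sub_single hn] at h2 ⊢
  refine ⟨h1, ?_⟩
  rw [Finsupp.sub_apply, Finsupp.single_apply, if_neg hPQ, sub_zero]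
  exact h2.2

end Gen

section FF
variable {k K : Type*} [Field k] [Field K] [Algebra k K]

theorem div_apply (hK : IsFunctionField k K) (x : K) (P : Place k K) :
    FunFld.div k x P = P.ord x := by
  unfold FunFld.div
  rw [dif_pos (Black.finite_support hK x)]
  rfl

theorem mem_L_iff (hK : IsFunctionField k K) {D : Divisor k K} {x : K} (hx : x ≠ 0) :
    x ∈ L D ↔ 0 ≤ FunFld.div k x + D := by
  rw [mem_L_iff_ord hx, Finsupp.le_def]
  refine forall_congr' fun P => ?_
  rw [Finsupp.add_apply, div_apply hK, Finsupp.coe_zero, Pi.zero_apply]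
  omega

theorem div_mul (hK : IsFunctionField k K) {x y : K} (hx : x ≠ 0) (hy : y ≠ 0) :
    FunFld.div k (x * y) = FunFld.div k x + FunFld.div k y := by
  ext P
  rw [Finsupp.add_apply, div_apply hK, div_apply hK, div_apply hK, ord_mul P hx hy]

theorem div_inv (hK : IsFunctionField k K) (x : K) :
    FunFld.div k x⁻¹ = -FunFld.div k x := by
  ext P
  rw [Finsupp.neg_apply, div_apply hK, div_apply hK, ord_inv P]

theorem place_deg_eq_one [IsAlgClosed k] (hK : IsFunctionField k K) (P : Place k K) :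
    P.deg = 1 := by
  have hfin := Black.finite_residue hK P
  have hfin' : @Module.Finite k (IsLocalRing.ResidueField P.O) _ _ Algebra.toModule := hfin
  have hint : Algebra.IsIntegral k (IsLocalRing.ResidueField P.O) := Algebra.IsIntegral.of_finite _ _
  have hs : Function.Bijective (algebraMap k (IsLocalRing.ResidueField P.O)) :=
    IsAlgClosed.algebraMap_bijective_of_isIntegral
  have h2 := (AlgEquiv.ofBijective (Algebra.ofId k (IsLocalRing.ResidueField P.O)) hs).toLinearEquiv.finrank_eq
  rw [Module.finrank_self] at h2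
  exact h2.symm

end FF

end K671.Basic
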