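import Groth.Agent.FunFld.K660.Compare

/-! The base facts on function fields of one variable used below (interface to `K660.Compare`). -/

namespace K671.Black

variable {k K : Type*} [Field k] [Field K] [Algebra k K]

theorem deg_div (hK : FunFld.IsFunctionField k K) (x : K) : (FunFld.div k x).deg = 0 :=
  K660.Compare.deg_div hK x

theorem finite_support (hK : FunFld.IsFunctionField k K) (x : K) :
    (Function.support fun P : FunFld.Place k K => P.ord x).Finite :=
  K660.Compare.finite_support_ord hK x

theorem finite_residue (hK : FunFld.IsFunctionField k K) (P : FunFld.Place k K) :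
    FiniteDimensional k (IsLocalRing.ResidueField P.O) :=
  K660.Compare.finite_residue hK P

theorem finite_L (hK : FunFld.IsFunctionField k K) (D : FunFld.Divisor k K) :
    FiniteDimensional k (FunFld.L D) :=
  K660.Compare.finite_L hK D

theorem L_zero (hK : FunFld.IsFunctionField k K) : FunFld.L (0 : FunFld.Divisor k K) = 1 :=
  K660.Compare.L_zero hK

theorem L_eq_bot (hK : FunFld.IsFunctionField k K) (D : FunFld.Divisor k K) (h : D.deg < 0) :
    FunFld.L D = ⊥ :=
  K660.Compare.L_eq_bot_of_deg_neg hK h

/-- Riemann's inequality. -/
theorem le_ell (hK : FunFld.IsFunctionField k K) (D : FunFld.Divisor k K) :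
    D.deg + 1 - (FunFld.ell D : ℤ) ≤ FunFld.genus k K :=
  K660.Compare.deg_add_one_sub_ell_le hK D

end K671.Black
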