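import Groth.Agent.FunFld.K671.Limit

/-! Numerical bookkeeping along a chain. -/

namespace K671.Chain

/-- Weights travel down the chain. -/
theorem down {n : ℕ} (a b : Fin (n + 1) → ℕ) (M c h : ℕ)
    (hcomp : ∀ l : Fin n, b l.castSucc + a l.succ = M)
    (hle : ∀ l : Fin (n + 1), 0 < (l : ℕ) → (l : ℕ) < n → a l + b l ≤ M)
    (hc : b 0 + c + 2 * h ≤ M + h) :
    ∀ (m : ℕ) (hm : m < n + 1), 0 < m → c + h ≤ a ⟨m, hm⟩ := by
  intro m
  induction m with
  | zero => intro _ h; exact absurd h (lt_irrefl _)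
  | succ m ih =>
    intro hm _
    have h1 := hcomp ⟨m, by omega⟩
    rw [Fin.castSucc_mk, Fin.succ_mk] at h1
    rcases Nat.eq_zero_or_pos m with rfl | hpos
    · have h0 : b (⟨0, by omega⟩ : Fin (n + 1)) = b 0 := rfl
      rw [h0] at h1
      omega
    · have h2 := ih (by omega) hpos
      have h3 := hle ⟨m, by omega⟩ hpos (by change m < n; omega)
      omega

end K671.Chain
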