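import Groth.Agent.FunFld.K671.Backbone

/-! Cusps forced by a chain ending in a component of positive genus. -/

namespace K671.Cusp

open FunFld K671.Basic K671.Limit K671.RatPlucker K671.Backbone

variable {k : Type*} [Field k] [IsAlgClosed k]

theorem r_eq_zero {K : Type*} [Field K] [Algebra k K] (hK : IsFunctionField k K) {D : Divisor k K}
    (hD : D.deg = 0) {V : Submodule k K} (hV : V ≤ L D) {r : ℕ}
    (hVr : Module.finrank k ↥V = r + 1) : r = 0 := by
  obtain ⟨P⟩ := K660.Places.nonempty_place hK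
  have := finite_of_finrank hVr
  have h1 := vd_le_succ (V := V) (D := D) hK P (n := 0) le_rfl
  rw [vd_zero hV, hVr, vd_eq_zero hK P (by rw [hD, place_deg_eq_one hK P]; norm_num)] at h1
  omega

theorem vd_le_one_of_pos {K : Type*} [Field K] [Algebra k K] (hK : IsFunctionField k K)
    (hg : 0 < genus k K) {D : Divisor k K} {d : ℕ} (hD : D.deg = d) (V : Submodule k K)
    (P : Place k K) : vd D V P ((d : ℤ) + 1 - (2 : ℕ)) ≤ 1 := by
  have hfin := Black.finite_L hK (D - Finsupp.single P ((d : ℤ) + 1 - (2 : ℕ)))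
  refine le_trans ?_ (ell_le_one hK hg (E := D - Finsupp.single P ((d : ℤ) + 1 - (2 : ℕ))) ?_)
  · exact Submodule.finrank_mono inf_le_right
  · rw [Basic.deg_sub, deg_single, hD, place_deg_eq_one hK P]
    push_cast
    ring

theorem vd_le_one_of_cusp {K : Type*} [Field K] [Algebra k K] (hK : IsFunctionField k K)
    {D : Divisor k K} {d : ℕ} (hD : D.deg = d) {V : Submodule k K} {r : ℕ}
    (hVr : Module.finrank k ↥V = r + 1) {A B : Place k K} (hAB : A ≠ B) (hcusp : r ≤ vd D V B 2) :
    vd D V A ((d : ℤ) + 1 - (2 : ℕ)) ≤ 1 := by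
  have := finite_of_finrank hVr
  have h1 := vd_add_vd_le (V := V) hK (D := D) hAB (m := (d : ℤ) + 1 - (2 : ℕ)) (n := 2)
    (by norm_num) (by rw [hD]; push_cast; omega)
  omega

omit [IsAlgClosed k] in
theorem cusp_of_le_one {KY KZ : Type*} [Field KY] [Field KZ] [Algebra k KY] [Algebra k KZ]
    {DY : Divisor k KY} {VY : Submodule k KY} {P : Place k KY}
    {DZ : Divisor k KZ} {VZ : Submodule k KZ} {Q : Place k KZ} {d r : ℕ} (hd : 1 ≤ d)
    (h : Compat DY VY P DZ VZ Q d r) (h1 : vd DZ VZ Q ((d : ℤ) + 1 - (2 : ℕ)) ≤ 1) :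
    r ≤ vd DY VY P 2 := by
  have := h 2 (by omega)
  push_cast at this h1
  omega

end K671.Cusp
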