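import Groth.Agent.FunFld.K671.Basic
import Groth.Agent.FunFld.K660.Weil

/-! Function fields of genus one with a rational place. -/

namespace K671.Ell1

open FunFld WithZero K671.Basic

variable {k K : Type*} [Field k] [Field K] [Algebra k K]

/-- Functions with distinct orders at a place are linearly independent over the constants. -/
theorem linearIndependent_of_ord {ι : Type*} (P : Place k K) (v : ι → K) (h0 : ∀ i, v i ≠ 0)
    (hinj : Function.Injective fun i => P.ord (v i)) : LinearIndependent k v := by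
  classical
  rw [linearIndependent_iff']
  intro s c hc
  by_contra hcon
  push Not at hcon
  obtain ⟨j, hjs, hj⟩ := hcon
  let s' := s.filter fun i => c i ≠ 0
  have hs' : s'.Nonempty := ⟨j, Finset.mem_filter.2 ⟨hjs, hj⟩⟩
  obtain ⟨i₀, hi₀, hmin⟩ := Finset.exists_min_image s' (fun i => P.ord (v i)) hs'
  have hci : c i₀ ≠ 0 := (Finset.mem_filter.1 hi₀).2
  have h1 : ∑ i ∈ s', c i • v i = 0 := by
    rw [← hc]
    apply Finset.sum_subset (Finset.filter_subset _ _)
    intro i hi hi'
    have : c i = 0 := by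
      by_contra h
      exact hi' (Finset.mem_filter.2 ⟨hi, h⟩)
    rw [this, zero_smul]
  rw [← Finset.add_sum_erase _ _ hi₀] at h1
  have h2 : P.1 (∑ i ∈ s'.erase i₀, c i • v i) < P.1 (c i₀ • v i₀) := by
    rw [val_smul P hci]
    apply Valuation.map_sum_lt _ ((Valuation.ne_zero_iff _).2 (h0 i₀))
    intro i hi
    have hi' := Finset.mem_of_mem_erase hi
    have hci' : c i ≠ 0 := (Finset.mem_filter.1 hi').2
    rw [val_smul P hci', val_eq_exp P (h0 i), val_eq_exp P (h0 i₀), exp_lt_exp]
    have h3 := hmin i hi'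
    have h4 : P.ord (v i₀) ≠ P.ord (v i) := fun h => (Finset.ne_of_mem_erase hi) (hinj h).symm
    omega
  have h3 := Valuation.map_add_eq_of_lt_left _ h2
  rw [h1, map_zero] at h3
  rw [← h3] at h2
  exact not_lt_zero h2

theorem ell_single (hK : IsFunctionField k K) (hg : genus k K = 1) (P : Place k K) (hP : P.deg = 1)
    {n : ℕ} (hn : 1 ≤ n) : ell (Finsupp.single P (n : ℤ)) = n := by
  have h1 := K660.Weil.ell_eq_of_deg_ge hK (D := Finsupp.single P (n : ℤ)) (by
    rw [deg_single, hg, hP]; push_cast; omega)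
  rw [deg_single, hg, hP] at h1
  push_cast at h1
  omega

theorem mem_L_mul {D E : Divisor k K} {x y : K} (hx : x ∈ L D) (hy : y ∈ L E) : x * y ∈ L (D + E) := by
  intro P
  rw [map_mul, Finsupp.add_apply, exp_add]
  exact mul_le_mul' (hx P) (hy P)

theorem one_mem_L : (1 : K) ∈ L (0 : Divisor k K) := by
  intro P
  rw [map_one, Finsupp.coe_zero, Pi.zero_apply, exp_zero]

theorem pow_mem_L {P : Place k K} {x : K} {m : ℕ} (hx : x ∈ L (Finsupp.single P (m : ℤ))) (i : ℕ) :
    x ^ i ∈ L (Finsupp.single P ((m * i : ℕ) : ℤ)) := by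
  induction i with
  | zero =>
    rw [pow_zero, mul_zero, Nat.cast_zero, Finsupp.single_zero]
    exact one_mem_L
  | succ i ih =>
    rw [pow_succ, mul_add, mul_one, Nat.cast_add, Finsupp.single_add]
    exact mem_L_mul ih hx

theorem single_mono {P : Place k K} {m n : ℤ} (h : m ≤ n) :
    L (Finsupp.single P m) ≤ L (Finsupp.single P n) := by
  classical
  apply L_mono
  intro Q
  rw [Finsupp.single_apply, Finsupp.single_apply]
  split_ifs
  · exact h
  · exact le_rfl

/-- The standard basis of `L(nP)` in genus one. -/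
theorem basis (hK : IsFunctionField k K) (hgen : genus k K = 1)
    (P : Place k K) (hP : P.deg = 1) (f g : K)
    (hf : f ∈ L (Finsupp.single P 2)) (hf2 : P.ord f = -2)
    (hg : g ∈ L (Finsupp.single P 3)) (hg3 : P.ord g = -3) (n : ℕ) (hn : 2 ≤ n) :
    LinearIndependent k
        (Sum.elim (fun i : Fin (n / 2 + 1) => f ^ (i : ℕ)) (fun i : Fin ((n - 1) / 2) => f ^ (i : ℕ) * g)) ∧
      Submodule.span k (Set.range
        (Sum.elim (fun i : Fin (n / 2 + 1) => f ^ (i : ℕ)) (fun i : Fin ((n - 1) / 2) => f ^ (i : ℕ) * g))) =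
        L (Finsupp.single P (n : ℤ)) := by
  have hf0 : f ≠ 0 := by rintro rfl; simp at hf2
  have hg0 : g ≠ 0 := by rintro rfl; simp at hg3
  have hli : LinearIndependent k
        (Sum.elim (fun i : Fin (n / 2 + 1) => f ^ (i : ℕ)) (fun i : Fin ((n - 1) / 2) => f ^ (i : ℕ) * g)) := by
    apply linearIndependent_of_ord P
    · rintro (i | i)
      · exact pow_ne_zero _ hf0
      · exact mul_ne_zero (pow_ne_zero _ hf0) hg0
    · rintro (i | i) (j | j) h
      · simp only [Sum.elim_inl, ord_pow, hf2] at h
        congr 1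
        exact Fin.ext (by omega)
      · simp only [Sum.elim_inl, Sum.elim_inr, ord_mul P (pow_ne_zero _ hf0) hg0, ord_pow, hf2,
          hg3] at h
        omega
      · simp only [Sum.elim_inl, Sum.elim_inr, ord_mul P (pow_ne_zero _ hf0) hg0, ord_pow, hf2,
          hg3] at h
        omega
      · simp only [Sum.elim_inr, ord_mul P (pow_ne_zero _ hf0) hg0, ord_pow, hf2, hg3] at h
        congr 1
        exact Fin.ext (by omega)
  refine ⟨hli, ?_⟩
  have hfin := Black.finite_L hK (Finsupp.single P (n : ℤ))
  apply Submodule.eq_of_le_of_finrank_eq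
  · rw [Submodule.span_le]
    rintro _ ⟨i | i, rfl⟩
    · have h1 := pow_mem_L (m := 2) hf i
      exact single_mono (by push_cast; have := i.2; omega) h1
    · have h1 := mem_L_mul (pow_mem_L (m := 2) hf i) hg
      rw [← Finsupp.single_add] at h1
      exact single_mono (by push_cast; have := i.2; omega) h1
  · rw [finrank_span_eq_card hli, Fintype.card_sum, Fintype.card_fin, Fintype.card_fin]
    change _ = ell _
    rw [ell_single hK hgen P hP (by omega)]
    omega

end K671.Ell1
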