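import Groth.Agent.FunFld.K671.WronskField
import Groth.Agent.FunFld.K671.Ell1
import Groth.Agent.FunFld.K660.Sep
import Groth.Agent.FunFld.K663.Gen

/-! Derivations of a function field: constants, regularity at almost all places, and vanishing orders of
a linear system at almost all places in characteristic zero. -/

namespace K671.Deriv

open FunFld WithZero K671.Basic IsDedekindDomain Polynomial

variable {k K : Type*} [Field k] [Field K] [Algebra k K]

attribute [local instance] K660.Places.instDed K660.Places.instFrac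

theorem exists_derivation [CharZero k] (hK : IsFunctionField k K) :
    ∃ δ : Derivation k K K, δ ≠ 0 := by
  obtain ⟨t, ht⟩ := K660.Places.exists_isGen hK
  have hfin := ht.fin
  have : CharZero (IntermediateField.adjoin k {t}) :=
    charZero_of_injective_algebraMap (algebraMap k _).injective
  have h1 := K660.Sep.finrank_kaehler ht inferInstance
  have : Module.Finite K (Ω[K⁄k]) := K660.Sep.finite_kaehler ht
  have : Nontrivial (Ω[K⁄k]) := Module.nontrivial_of_finrank_pos (R := K) (by omega)
  obtain ⟨w, hw⟩ := exists_ne (0 : Ω[K⁄k])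
  obtain ⟨f, hf⟩ : ∃ f : Ω[K⁄k] →ₗ[K] K, f w ≠ 0 := by
    by_contra hcon
    push Not at hcon
    exact hw ((Module.forall_dual_apply_eq_zero_iff K w).1 hcon)
  refine ⟨f.compDer (KaehlerDifferential.D k K), ?_⟩
  intro h
  apply hf
  have h2 : ∀ x ∈ Submodule.span K (Set.range (KaehlerDifferential.D k K)), f x = 0 := by
    intro x hx
    induction hx using Submodule.span_induction with
    | mem x hx =>
      obtain ⟨y, rfl⟩ := hx
      exact DFunLike.congr_fun h y
    | zero => exact map_zero f
    | add x y _ _ hx hy => rw [map_add, hx, hy, add_zero]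
    | smul a x _ hx => rw [map_smul, hx, smul_zero]
  exact h2 w (by rw [KaehlerDifferential.span_range_derivation]; trivial)

/-- The constants of a nonzero derivation. -/
theorem const_of_eq_zero [CharZero k] (hK : IsFunctionField k K) {δ : Derivation k K K} (hδ : δ ≠ 0)
    {x : K} (hx : δ x = 0) : x ∈ Set.range (algebraMap k K) := by
  by_contra hx'
  have hgen := K660.Places.isGen_of_transcendental hK (K660.Places.transcendental_of_notMem hK hx')
  have := hgen.fin
  have : CharZero (IntermediateField.adjoin k {x}) :=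
    charZero_of_injective_algebraMap (algebraMap k _).injective
  apply hδ
  apply K663.Gen.eq_zero_of_isSeparable (IntermediateField.adjoin k {x})
  intro y hy
  have hle : IntermediateField.adjoin k {x} ≤ K663.Gen.kerField δ := by
    rw [IntermediateField.adjoin_simple_le_iff]
    exact hx
  exact hle hy

/-- A derivation is regular at `P`. -/
def RegAt (δ : Derivation k K K) (P : Place k K) : Prop := ∀ x : K, P.1 x ≤ 1 → P.1 (δ x) ≤ 1

theorem finite_aux (δ : Derivation k K K) {t : K} (ht : K660.Places.IsGen k K t) :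
    {P : Place k K | P.1 t ≤ 1 ∧ ¬ RegAt δ P}.Finite := by
  have hfact : Fact (K660.Places.IsGen k K t) := ⟨ht⟩
  have hfin : Module.Finite (Algebra.adjoin k {t}) (integralClosure (Algebra.adjoin k {t}) K) :=
    K660.Ded.finite_integralClosure ht.tr ht.fin
  obtain ⟨s, hs⟩ := hfin.fg_top
  have hbad : ({P : Place k K | ¬ P.1 (δ t) ≤ 1} ∪
      ⋃ b ∈ s, {P : Place k K | ¬ P.1 (δ (b : K)) ≤ 1}).Finite :=
    (ht.finite_pole _).union (s.finite_toSet.biUnion fun b _ => ht.finite_pole _)
  refine hbad.subset ?_
  rintro P ⟨hPt, hP⟩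
  by_contra hcon
  simp only [Set.mem_union, Set.mem_iUnion, Set.mem_ofPred_eq, not_or, not_not, not_exists] at hcon
  obtain ⟨h1, h2⟩ := hcon
  apply hP
  obtain ⟨p, rfl⟩ := K660.Places.exists_ofPrime_eq (t := t) P hPt
  set P := K660.Places.ofPrime p with hPdef
  have hB : ∀ b : integralClosure (Algebra.adjoin k {t}) K, P.1 (b : K) ≤ 1 := fun b =>
    p.valuation_le_one b
  -- on `k[t]`
  have hA : ∀ a : Algebra.adjoin k {t}, P.1 (δ (a : K)) ≤ 1 := by
    rintro ⟨a, ha⟩
    rw [Algebra.adjoin_singleton_eq_range_aeval] at ha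
    obtain ⟨q, rfl⟩ := ha
    change P.1 (δ (aeval t q)) ≤ 1
    rw [δ.map_aeval, smul_eq_mul, map_mul]
    exact mul_le_one' (K660.Places.val_aeval_le P hPt _) h1
  -- on `B`
  have hδB : ∀ b : integralClosure (Algebra.adjoin k {t}) K, P.1 (δ (b : K)) ≤ 1 := by
    intro b
    have hb : b ∈ Submodule.span (Algebra.adjoin k {t}) (s : Set _) := by rw [hs]; trivial
    induction hb using Submodule.span_induction with
    | mem x hx => exact h2 x hx
    | zero => simp
    | add x y _ _ hx hy =>
      rw [Subalgebra.coe_add, map_add]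
      exact P.1.map_add_le hx hy
    | smul a x _ hx =>
      have : ((a • x : integralClosure (Algebra.adjoin k {t}) K) : K) = (a : K) * (x : K) := by
        rw [Algebra.smul_def]; rfl
      rw [this, δ.leibniz, smul_eq_mul, smul_eq_mul]
      refine P.1.map_add_le ?_ ?_
      · rw [map_mul]
        exact mul_le_one' (K660.Places.val_adjoin_le P hPt a) hx
      · rw [map_mul]
        exact mul_le_one' (hB x) (hA a)
  intro x hx
  obtain ⟨n, d, hnd⟩ := p.exists_primeCompl_mul_eq_of_integer x hx
  have hd : P.1 ((d : integralClosure (Algebra.adjoin k {t}) K) : K) = 1 :=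
    (p.valuation_eq_one_iff_notMem (K := K)).2 d.2
  have h3 : x * ((d : integralClosure (Algebra.adjoin k {t}) K) : K) = (n : K) := hnd
  have h4 := congrArg δ h3
  rw [δ.leibniz, smul_eq_mul, smul_eq_mul] at h4
  have h5 : ((d : integralClosure (Algebra.adjoin k {t}) K) : K) * δ x =
      δ (n : K) - x * δ ((d : integralClosure (Algebra.adjoin k {t}) K) : K) := by
    rw [← h4]; ring
  have h6 : P.1 (((d : integralClosure (Algebra.adjoin k {t}) K) : K) * δ x) ≤ 1 := by
    rw [h5]
    refine (P.1.map_sub _ _).trans (max_le (hδB n) ?_)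
    rw [map_mul]
    exact mul_le_one' hx (hδB _)
  rwa [map_mul, hd, one_mul] at h6

/-- A derivation is regular at almost all places. -/
theorem finite_not_regAt (hK : IsFunctionField k K) (δ : Derivation k K K) :
    {P : Place k K | ¬ RegAt δ P}.Finite := by
  obtain ⟨t, ht⟩ := K660.Places.exists_isGen hK
  refine ((finite_aux δ ht).union (finite_aux δ ht.inv)).subset ?_
  intro P hP
  rcases K660.Places.le_or_inv_le P t with h | h
  · exact Or.inl ⟨h, hP⟩
  · exact Or.inr ⟨h, hP⟩

/-- A regular derivation lowers the order by at most one. -/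
theorem RegAt.val_le {δ : Derivation k K K} {P : Place k K} (h : RegAt δ P) {x : K} {n : ℕ}
    (hx : P.1 x ≤ exp (-((n : ℤ) + 1))) : P.1 (δ x) ≤ exp (-(n : ℤ)) := by
  obtain ⟨u, hu⟩ := exists_uniformizer P
  have hu0 : u ≠ 0 := by rintro rfl; rw [map_zero] at hu; exact exp_ne_zero hu.symm
  have hy : P.1 (x / u ^ (n + 1)) ≤ 1 := by
    rw [map_div₀, map_pow, hu, ← exp_nsmul]
    apply div_le_one_of_le₀ _ zero_le
    convert hx using 2
    simp
  have hx' : x = u ^ (n + 1) * (x / u ^ (n + 1)) := by
    rw [mul_div_cancel₀ _ (pow_ne_zero _ hu0)]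
  have hu1 : P.1 u ≤ 1 := by
    rw [hu, ← exp_zero (M := ℤ)]; exact exp_le_exp.2 (by norm_num)
  have hun : P.1 (u ^ n) = exp (-(n : ℤ)) := by
    rw [map_pow, hu, ← exp_nsmul]; simp
  rw [hx', δ.leibniz, smul_eq_mul, smul_eq_mul]
  refine P.1.map_add_le ?_ ?_
  · rw [pow_succ, map_mul, map_mul, hun]
    calc exp (-(n : ℤ)) * P.1 u * P.1 (δ (x / (u ^ n * u))) ≤ exp (-(n : ℤ)) * 1 * 1 := by
          gcongr
          rw [← pow_succ]
          exact h _ hy
      _ = _ := by rw [mul_one, mul_one]
  · rw [δ.leibniz_pow, Nat.add_sub_cancel, nsmul_eq_mul, smul_eq_mul, map_mul, map_mul, map_mul, hun]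
    calc P.1 (x / u ^ (n + 1)) * (P.1 ((n + 1 : ℕ) : K) * (exp (-(n : ℤ)) * P.1 (δ u)))
        ≤ 1 * (1 * (exp (-(n : ℤ)) * 1)) := by
          gcongr
          · have := P.2.1 ((n + 1 : ℕ) : k)
            rwa [map_natCast] at this
          · exact h _ hu1
      _ = _ := by rw [one_mul, one_mul, mul_one]

theorem RegAt.iterate_val_le {δ : Derivation k K K} {P : Place k K} (h : RegAt δ P) {x : K}
    {n i : ℕ} (hx : P.1 x ≤ exp (-((n + i : ℕ) : ℤ))) : P.1 (δ^[i] x) ≤ exp (-(n : ℤ)) := by
  induction i generalizing x n with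
  | zero => simpa using hx
  | succ i ih =>
    rw [Function.iterate_succ_apply']
    apply h.val_le
    have := ih (x := x) (n := n + 1) (by convert hx using 3; push_cast; ring)
    convert this using 3
    push_cast
    ring

theorem RegAt.iterate_val_le_one {δ : Derivation k K K} {P : Place k K} (h : RegAt δ P) {x : K}
    (i : ℕ) (hx : P.1 x ≤ 1) : P.1 (δ^[i] x) ≤ 1 := by
  induction i with
  | zero => simpa using hx
  | succ i ih =>
    rw [Function.iterate_succ_apply']
    exact h _ ih

/-- In characteristic zero, at almost all places the vanishing orders of a linear system of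
dimension `n` are less than `n`. -/
theorem finite_high_order [CharZero k] (hK : IsFunctionField k K) (V : Submodule k K)
    [FiniteDimensional k ↥V] :
    {P : Place k K | ∃ v ∈ V, v ≠ 0 ∧ P.1 v ≤ exp (-(Module.finrank k ↥V : ℤ))}.Finite := by
  classical
  obtain ⟨δ, hδ⟩ := exists_derivation hK
  set n := Module.finrank k ↥V with hn
  let b := Module.finBasis k ↥V
  let f : Fin n → K := fun j => (b j : K)
  have hf : LinearIndependent k f := b.linearIndependent.map' V.subtype (Submodule.ker_subtype V)
  have hW := WronskField.det_ne_zero δ (fun x => const_of_eq_zero hK hδ) f hf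
  set W := (WronskField.mat δ f).det with hWdef
  have hbad : ({P : Place k K | ¬ RegAt δ P} ∪ (⋃ j, {P : Place k K | ¬ P.1 (f j) ≤ 1}) ∪
      (Function.support fun P : Place k K => P.ord W)).Finite :=
    ((finite_not_regAt hK δ).union (Set.finite_iUnion fun j => K660.Places.finite_pole hK _)).union
      (Black.finite_support hK W)
  refine hbad.subset ?_
  rintro P ⟨v, hvV, hv0, hv⟩
  by_contra hcon
  simp only [Set.mem_union, Set.mem_iUnion, Set.mem_ofPred_eq, not_or, not_not, not_exists,
    Function.mem_support] at hcon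
  obtain ⟨⟨hreg, hfj⟩, hord⟩ := hcon
  -- coordinates of `v`
  obtain ⟨c, hc⟩ : ∃ c : Fin n → k, ∑ j, c j • f j = v := by
    refine ⟨fun j => b.repr ⟨v, hvV⟩ j, ?_⟩
    have h' := congrArg V.subtype (b.sum_repr ⟨v, hvV⟩)
    rw [map_sum] at h'
    exact h'
  obtain ⟨j₀, hj₀⟩ : ∃ j, c j ≠ 0 := by
    by_contra hcz
    push Not at hcz
    apply hv0
    rw [← hc]
    simp [hcz]
  -- the matrix over the valuation ring
  let M : Matrix (Fin n) (Fin n) P.O := Matrix.of fun i j =>
    ⟨δ^[(i : ℕ)] (f j), (Valuation.mem_valuationSubring_iff _ _).2 (hreg.iterate_val_le_one _ (hfj j))⟩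
  have hM : (algebraMap P.O K).mapMatrix M = WronskField.mat δ f := by
    ext i j; rfl
  have hdetM : algebraMap P.O K M.det = W := by
    rw [RingHom.map_det, hM]
  let c' : Fin n → P.O := fun j => algebraMap k P.O (c j)
  let w : Fin n → P.O := M.mulVec c'
  have hwval : ∀ i, P.1 (w i : K) < 1 := by
    intro i
    have h1 : ((w i : P.O) : K) = δ^[(i : ℕ)] v := by
      have : ((w i : P.O) : K) = ∑ j, δ^[(i : ℕ)] (f j) * algebraMap k K (c j) := by
        change algebraMap P.O K (∑ j, M i j * c' j) = _
        rw [map_sum]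
        refine Finset.sum_congr rfl fun j _ => ?_
        rw [map_mul]
        rfl
      rw [this, ← hc]
      have hlin : ∀ (m : ℕ) (x : Fin n → K), δ^[m] (∑ j, c j • x j) = ∑ j, c j • δ^[m] (x j) := by
        intro m
        induction m with
        | zero => intro x; rfl
        | succ m ih =>
          intro x
          rw [Function.iterate_succ_apply, map_sum]
          have : ∀ j, δ (c j • x j) = c j • δ (x j) := fun j => δ.map_smul _ _
          rw [Finset.sum_congr rfl fun j _ => this j, ih]
          rfl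
      rw [hlin]
      refine Finset.sum_congr rfl fun j _ => ?_
      rw [Algebra.smul_def, mul_comm]
    rw [h1]
    have h2 : P.1 (δ^[(i : ℕ)] v) ≤ exp (-((n - i : ℕ) : ℤ)) := by
      apply hreg.iterate_val_le
      rw [Nat.sub_add_cancel i.2.le]
      exact hv
    refine lt_of_le_of_lt h2 ?_
    rw [← exp_zero (M := ℤ)]
    have := i.2
    exact exp_lt_exp.2 (by omega)
  have hcr : M.det • c' = (M.adjugate).mulVec w := by
    rw [Matrix.mulVec_mulVec, Matrix.adjugate_mul, Matrix.smul_mulVec, Matrix.one_mulVec]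
  have h3 := congrArg (fun x : P.O => (x : K)) (congrFun hcr j₀)
  have h4 : P.1 (W * algebraMap k K (c j₀)) < 1 := by
    have h5 : W * algebraMap k K (c j₀) = ∑ i, ((M.adjugate j₀ i : P.O) : K) * ((w i : P.O) : K) := by
      have h6 : ((M.det • c') j₀ : K) = W * algebraMap k K (c j₀) := by
        rw [← hdetM]; rfl
      rw [← h6, h3]
      change algebraMap P.O K (∑ i, M.adjugate j₀ i * w i) = _
      rw [map_sum]
      refine Finset.sum_congr rfl fun i _ => ?_
      rw [map_mul]
      rfl
    rw [h5]
    apply Valuation.map_sum_lt _ one_ne_zero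
    intro i _
    rw [map_mul, mul_comm]
    exact mul_lt_one_of_lt_of_le (hwval i)
      ((Valuation.mem_valuationSubring_iff _ _).1 (M.adjugate j₀ i).2)
  rw [map_mul, val_algebraMap P hj₀, mul_one, val_lt_one_iff P hW] at h4
  omega

end K671.Deriv
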