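import Groth.Agent.FunFld.K671.Limit
import Groth.Agent.FunFld.K666.Basic
import Groth.Agent.FunFld.K660.Weil
import Mathlib.RingTheory.Polynomial.DegreeLT

/-! Function fields of genus zero over an algebraically closed field. -/

namespace K671.Rat

open FunFld WithZero K671.Basic Polynomial

variable {k K : Type*} [Field k] [Field K] [Algebra k K]

/-- An effective divisor of degree `0` is zero. -/
theorem eq_zero_of_deg_zero (hK : IsFunctionField k K) {E : Divisor k K} (h : 0 ≤ E)
    (h0 : E.deg = 0) : E = 0 := by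
  by_contra hne
  have := K660.Compare.deg_pos hK h hne
  omega

/-- `t` has a simple pole at `P₀` and no other pole. -/
structure IsCoord (P₀ : Place k K) (t : K) : Prop where
  ne_zero : t ≠ 0
  ord_pole : P₀.ord t = -1
  ord_nonneg : ∀ Q : Place k K, Q ≠ P₀ → 0 ≤ Q.ord t

variable [IsAlgClosed k]

omit [IsAlgClosed k] in
theorem exists_coord_of_ell (hK : IsFunctionField k K) (P₀ : Place k K)
    (h2 : 2 ≤ ell (Finsupp.single P₀ 1 : Divisor k K)) : ∃ t : K, IsCoord P₀ t := by
  have h3 : Module.finrank k (L (0 : Divisor k K)) = 1 := K660.Compare.ell_zero hK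
  have hle : L (0 : Divisor k K) ≤ L (Finsupp.single P₀ 1) :=
    L_mono (Finsupp.single_nonneg.2 zero_le_one)
  obtain ⟨t, ht1, ht0⟩ : ∃ t ∈ L (Finsupp.single P₀ 1 : Divisor k K), t ∉ L (0 : Divisor k K) := by
    by_contra hcon
    push Not at hcon
    have hle' : L (Finsupp.single P₀ 1 : Divisor k K) ≤ L (0 : Divisor k K) := hcon
    have := le_antisymm hle' hle
    unfold ell at h2
    rw [this, h3] at h2
    omega
  have hne : t ≠ 0 := by rintro rfl; exact ht0 (Submodule.zero_mem _)
  classical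
  have h4 : ∀ Q : Place k K, Q ≠ P₀ → 0 ≤ Q.ord t := by
    intro Q hQ
    have := (mem_L_iff_ord hne).1 ht1 Q
    rw [Finsupp.single_apply, if_neg (Ne.symm hQ)] at this
    omega
  refine ⟨t, hne, ?_, h4⟩
  have h5 := (mem_L_iff_ord hne).1 ht1 P₀
  rw [Finsupp.single_eq_same] at h5
  rw [mem_L_iff_ord hne] at ht0
  push Not at ht0
  obtain ⟨Q, hQ⟩ := ht0
  rw [Finsupp.coe_zero, Pi.zero_apply, neg_zero] at hQ
  by_cases hQ0 : Q = P₀
  · subst hQ0; omega
  · have := h4 Q hQ0; omega

/-- In genus zero every place is the pole of a coordinate. -/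
theorem exists_coord (hK : IsFunctionField k K) (hg : genus k K = 0) (P₀ : Place k K) :
    ∃ t : K, IsCoord P₀ t := by
  have h1 := Black.le_ell hK (Finsupp.single P₀ 1)
  rw [deg_single, place_deg_eq_one hK, hg] at h1
  exact exists_coord_of_ell hK P₀ (by push_cast at h1; omega)

namespace IsCoord

variable {P₀ : Place k K} {t : K}

theorem val_pole (h : IsCoord P₀ t) : P₀.1 t = exp (1 : ℤ) := by
  rw [val_eq_exp P₀ h.ne_zero, h.ord_pole]; rfl

theorem val_le (h : IsCoord P₀ t) {Q : Place k K} (hQ : Q ≠ P₀) : Q.1 t ≤ 1 :=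
  (val_le_one_iff Q t).2 (h.ord_nonneg Q hQ)

theorem exists_val (hK : IsFunctionField k K) (h : IsCoord P₀ t) {P : Place k K} (hP : P ≠ P₀) :
    ∃ a : k, P.1 (t - algebraMap k K a) < 1 :=
  K666.Basic.exists_const hK P t (h.val_le hP)

theorem val_pole_sub (h : IsCoord P₀ t) (a : k) : P₀.1 (t - algebraMap k K a) = exp (1 : ℤ) := by
  rw [← h.val_pole]
  apply Valuation.map_sub_eq_of_lt_left
  rw [h.val_pole]
  refine lt_of_le_of_lt (P₀.2.1 a) ?_
  rw [← exp_zero (M := ℤ)]
  exact exp_lt_exp.2 zero_lt_one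

theorem sub_ne_zero' (h : IsCoord P₀ t) (a : k) : t - algebraMap k K a ≠ 0 := by
  intro h0
  have := h.val_pole_sub a
  rw [h0, map_zero] at this
  exact exp_ne_zero this.symm

/-- The divisor of `t - a`. -/
theorem div_sub (hK : IsFunctionField k K) (h : IsCoord P₀ t) {P : Place k K} (hP : P ≠ P₀) {a : k}
    (ha : P.1 (t - algebraMap k K a) < 1) :
    FunFld.div k (t - algebraMap k K a) = Finsupp.single P 1 - Finsupp.single P₀ 1 := by
  classical
  have hne := h.sub_ne_zero' a
  have h1 : 0 ≤ FunFld.div k (t - algebraMap k K a) + Finsupp.single P₀ 1 - Finsupp.single P 1 := by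
    intro Q
    rw [Finsupp.coe_zero, Pi.zero_apply, Finsupp.sub_apply, Finsupp.add_apply, div_apply hK,
      Finsupp.single_apply, Finsupp.single_apply]
    by_cases hQ0 : Q = P₀
    · subst hQ0
      rw [if_pos rfl, if_neg hP, ord_of_val_eq Q (h.val_pole_sub a)]
      omega
    · by_cases hQP : Q = P
      · subst hQP
        rw [if_neg (Ne.symm hP), if_pos rfl]
        have := (val_lt_one_iff Q hne).1 ha
        omega
      · rw [if_neg (Ne.symm hQ0), if_neg (Ne.symm hQP)]
        have : Q.1 (t - algebraMap k K a) ≤ 1 :=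
          (Q.1.map_sub _ _).trans (max_le (h.val_le hQ0) (Q.2.1 a))
        have := (val_le_one_iff Q _).1 this
        omega
  have h2 := eq_zero_of_deg_zero hK h1 (by
    rw [Basic.deg_sub, deg_add, Black.deg_div hK, deg_single, deg_single, place_deg_eq_one hK P,
      place_deg_eq_one hK P₀]
    push_cast)
  rw [← sub_eq_zero, ← h2]
  abel

/-- The value of `t` determines the place. -/
theorem val_inj (hK : IsFunctionField k K) (h : IsCoord P₀ t) {P Q : Place k K} (hP : P ≠ P₀)
    (hQ : Q ≠ P₀) {a : k} (ha : P.1 (t - algebraMap k K a) < 1)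
    (hb : Q.1 (t - algebraMap k K a) < 1) : P = Q := by
  classical
  by_contra hne
  have h1 := h.div_sub hK hP ha
  have h2 := congrArg (fun D : Divisor k K => D Q) h1
  simp only [Finsupp.sub_apply, Finsupp.single_apply, if_neg hne, if_neg (Ne.symm hQ),
    div_apply hK] at h2
  have := (val_lt_one_iff Q (h.sub_ne_zero' a)).1 hb
  omega

theorem val_at (hK : IsFunctionField k K) (h : IsCoord P₀ t) {P : Place k K} (hP : P ≠ P₀) {a : k}
    (ha : P.1 (t - algebraMap k K a) < 1) : P.1 (t - algebraMap k K a) = exp (-1 : ℤ) := by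
  classical
  have h2 := congrArg (fun D : Divisor k K => D P) (h.div_sub hK hP ha)
  simp only [Finsupp.sub_apply, Finsupp.single_apply, if_neg (Ne.symm hP), if_true,
    div_apply hK] at h2
  rw [val_eq_exp P (h.sub_ne_zero' a), h2]
  rfl

theorem aeval_eq (t : K) (g : k[X]) : aeval t g =
    algebraMap k K g.leadingCoeff * (g.roots.map fun a => t - algebraMap k K a).prod := by
  conv_lhs => rw [(IsAlgClosed.splits g).eq_prod_roots]
  rw [map_mul, aeval_C, map_multiset_prod, Multiset.map_map]
  congr 2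
  refine Multiset.map_congr rfl fun a _ => ?_
  simp

theorem aeval_ne_zero (h : IsCoord P₀ t) {g : k[X]} (hg : g ≠ 0) : aeval t g ≠ 0 := by
  rw [aeval_eq]
  refine mul_ne_zero ?_ ?_
  · rw [Ne, FaithfulSMul.algebraMap_eq_zero_iff]
    exact leadingCoeff_ne_zero.2 hg
  · rw [Ne, Multiset.prod_eq_zero_iff, Multiset.mem_map]
    rintro ⟨a, _, ha⟩
    exact h.sub_ne_zero' a ha

theorem aeval_injective (h : IsCoord P₀ t) : Function.Injective (aeval t : k[X] → K) := by
  intro f g hfg
  by_contra hne
  have := h.aeval_ne_zero (sub_ne_zero.2 hne)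
  rw [map_sub] at this
  exact this (sub_eq_zero.2 hfg)

/-- The value of `g(t)` at the pole of `t`. -/
theorem val_aeval_pole (h : IsCoord P₀ t) {g : k[X]} (hg : g ≠ 0) :
    P₀.1 (aeval t g) = exp (g.natDegree : ℤ) := by
  rw [aeval_eq, map_mul, val_algebraMap P₀ (leadingCoeff_ne_zero.2 hg), one_mul, map_multiset_prod,
    Multiset.map_map]
  have h1 : (g.roots.map (⇑P₀.1 ∘ fun a => t - algebraMap k K a)) =
      Multiset.replicate g.roots.card (exp (1 : ℤ)) := by
    rw [Multiset.eq_replicate]
    refine ⟨by simp, ?_⟩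
    intro b hb
    obtain ⟨a, _, rfl⟩ := Multiset.mem_map.1 hb
    exact h.val_pole_sub a
  rw [h1, Multiset.prod_replicate, ← (IsAlgClosed.splits g).natDegree_eq_card_roots, ← exp_nsmul]
  simp

/-- Vanishing of `g(t)` at a place with `t = a`. -/
theorem pow_dvd_of_val_le (hK : IsFunctionField k K) (h : IsCoord P₀ t) {P : Place k K} (hP : P ≠ P₀)
    {a : k} (ha : P.1 (t - algebraMap k K a) < 1) {g : k[X]} {m : ℕ}
    (hm : P.1 (aeval t g) ≤ exp (-(m : ℤ))) : (X - C a) ^ m ∣ g := by
  induction m generalizing g with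
  | zero => simp
  | succ m ih =>
    have h1 : P.1 (aeval t g) < 1 := by
      refine lt_of_le_of_lt hm ?_
      rw [← exp_zero (M := ℤ)]
      exact exp_lt_exp.2 (by push_cast; omega)
    have h2 : (X - C a) ∣ g := by
      rw [dvd_iff_isRoot, IsRoot.def]
      by_contra hne
      obtain ⟨q, hq⟩ := X_sub_C_dvd_sub_C_eval (a := a) (p := g)
      have h3 : aeval t g = algebraMap k K (g.eval a) +
          (t - algebraMap k K a) * aeval t q := by
        have := congrArg (aeval t) hq
        rw [map_sub, aeval_C, map_mul, map_sub, aeval_X, aeval_C, sub_eq_iff_eq_add] at this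
        rw [this]; ring
      have h4 : P.1 (aeval t g) = 1 := by
        have h5 : P.1 ((t - algebraMap k K a) * aeval t q) < P.1 (algebraMap k K (g.eval a)) := by
          rw [val_algebraMap P hne, map_mul]
          exact mul_lt_one_of_lt_of_le ha (K666.Basic.Place_aeval_le P t (h.val_le hP) q)
        rw [h3, Valuation.map_add_eq_of_lt_left _ h5, val_algebraMap P hne]
      rw [h4] at h1
      exact lt_irrefl _ h1
    obtain ⟨q, rfl⟩ := h2
    rw [pow_succ']
    apply mul_dvd_mul_left
    apply ih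
    rw [map_mul, map_mul, map_sub, aeval_X, aeval_C, h.val_at hK hP ha] at hm
    have h5 : P.1 (aeval t q) = exp 1 * (exp (-1) * P.1 (aeval t q)) := by
      rw [← mul_assoc, ← exp_add]; simp
    rw [h5]
    calc exp (1 : ℤ) * (exp (-1) * P.1 (aeval t q)) ≤ exp 1 * exp (-((m + 1 : ℕ) : ℤ)) := by gcongr
      _ = exp (-(m : ℤ)) := by rw [← exp_add]; congr 1; push_cast; ring

/-- The polynomials in `t` of degree at most `n`. -/
theorem exists_range (h : IsCoord P₀ t) (n : ℕ) :
    ∃ e : degreeLT k (n + 1) →ₗ[k] K, (∀ g, e g = aeval t (g : k[X])) ∧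
      LinearMap.range e ≤ L (Finsupp.single P₀ (n : ℤ)) ∧
      Module.finrank k (LinearMap.range e) = n + 1 := by
  classical
  let e : degreeLT k (n + 1) →ₗ[k] K := (aeval t).toLinearMap ∘ₗ (degreeLT k (n + 1)).subtype
  have he : Function.Injective e := by
    intro a b hab
    exact Subtype.ext (h.aeval_injective hab)
  refine ⟨e, fun _ => rfl, ?_, ?_⟩
  · rintro _ ⟨⟨g, hg⟩, rfl⟩
    change aeval t g ∈ _
    intro Q
    by_cases hg0 : g = 0
    · rw [hg0, map_zero, map_zero]; exact zero_le
    by_cases hQ : Q = P₀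
    · subst hQ
      rw [h.val_aeval_pole hg0, Finsupp.single_eq_same]
      apply exp_le_exp.2
      rw [mem_degreeLT] at hg
      have := (natDegree_lt_iff_degree_lt hg0).2 hg
      omega
    · rw [Finsupp.single_apply, if_neg (Ne.symm hQ), exp_zero]
      exact K666.Basic.Place_aeval_le Q t (h.val_le hQ) g
  · rw [LinearMap.finrank_range_of_inj he, Module.finrank_eq_card_basis (degreeLT.basis k (n + 1)),
      Fintype.card_fin]

theorem succ_le_ell (hK : IsFunctionField k K) (h : IsCoord P₀ t) (n : ℕ) :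
    n + 1 ≤ ell (Finsupp.single P₀ (n : ℤ)) := by
  have := Black.finite_L hK (Finsupp.single P₀ (n : ℤ))
  obtain ⟨e, -, h1, h2⟩ := h.exists_range n
  rw [← h2]
  exact Submodule.finrank_mono h1

/-- A function field with a coordinate has genus zero. -/
theorem genus_eq_zero (hK : IsFunctionField k K) (h : IsCoord P₀ t) : genus k K = 0 := by
  have h1 := h.succ_le_ell hK (2 * genus k K)
  have h2 := K660.Weil.ell_eq_of_deg_ge hK
    (D := Finsupp.single P₀ ((2 * genus k K : ℕ) : ℤ)) (by
      rw [deg_single, place_deg_eq_one hK]; push_cast; omega)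
  rw [deg_single, place_deg_eq_one hK] at h2
  push_cast at h1 h2
  omega

/-- `L(n P₀)` consists of the polynomials in `t` of degree at most `n`. -/
theorem mem_L_single (hK : IsFunctionField k K) (hg : genus k K = 0) (h : IsCoord P₀ t) (n : ℕ)
    {x : K} (hx : x ∈ L (Finsupp.single P₀ (n : ℤ))) : ∃ g : k[X], g.natDegree ≤ n ∧ aeval t g = x := by
  classical
  have := Black.finite_L hK (Finsupp.single P₀ (n : ℤ))
  obtain ⟨e, he, hrange, hfr⟩ := h.exists_range n
  have hell : ell (Finsupp.single P₀ (n : ℤ)) = n + 1 := by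
    have h1 := K660.Weil.ell_eq_of_deg_ge hK (D := Finsupp.single P₀ (n : ℤ)) (by
      rw [deg_single, hg, place_deg_eq_one hK]; push_cast; omega)
    rw [deg_single, hg, place_deg_eq_one hK] at h1
    push_cast at h1
    omega
  have heq : LinearMap.range e = L (Finsupp.single P₀ (n : ℤ)) := by
    apply Submodule.eq_of_le_of_finrank_eq hrange
    rw [hfr]; exact hell.symm
  rw [← heq] at hx
  obtain ⟨⟨g, hg⟩, rfl⟩ := hx
  refine ⟨g, ?_, (he ⟨g, hg⟩).symm⟩
  rw [mem_degreeLT] at hg
  by_cases hg0 : g = 0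
  · simp [hg0]
  · have := (natDegree_lt_iff_degree_lt hg0).2 hg
    omega

end IsCoord

/-- In genus zero divisors of degree zero are principal. -/
theorem exists_div_eq (hK : IsFunctionField k K) (hg : genus k K = 0) {D : Divisor k K}
    (hD : D.deg = 0) : ∃ x : K, x ≠ 0 ∧ FunFld.div k x = D := by
  have h1 := Black.le_ell hK D
  obtain ⟨x, hx, hx'⟩ := K660.Weil.exists_eq_neg_div hK hD (by omega)
  refine ⟨x⁻¹, inv_ne_zero hx, ?_⟩
  rw [Basic.div_inv hK, ← hx']

end K671.Rat
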