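import Groth.Agent.FunFld.K671.Ell1
import Groth.Agent.FunFld.K671.Rat
import Mathlib.RingTheory.AdjoinRoot
import Mathlib.FieldTheory.IntermediateField.Adjoin.Basic
import Mathlib.RingTheory.RootsOfUnity.AlgebraicallyClosed

/-! Automorphisms of an elliptic function field fixing the origin. -/

namespace K671.EllAut

open FunFld WithZero K671.Basic K671.Ell1 Polynomial

variable {k K : Type*} [Field k] [Field K] [Algebra k K]

/-- The place `P ∘ σ`. -/
def comap (P : Place k K) (σ : K ≃ₐ[k] K) : Place k K :=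
  ⟨P.1.comap (σ : K →+* K), by
    refine ⟨fun c => ?_, fun y => ?_⟩
    · change P.1 (σ (algebraMap k K c)) ≤ 1
      rw [σ.commutes]; exact P.2.1 c
    · obtain ⟨z, hz⟩ := P.2.2 y
      exact ⟨σ.symm z, by change P.1 (σ (σ.symm z)) = y; rw [σ.apply_symm_apply, hz]⟩⟩

theorem comap_val (P : Place k K) (σ : K ≃ₐ[k] K) (z : K) : (comap P σ).1 z = P.1 (σ z) := rfl

theorem place_ext {P Q : Place k K} (h : ∀ z, P.1 z = Q.1 z) : P = Q :=
  Subtype.ext (Valuation.ext h)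

theorem comap_injective (σ : K ≃ₐ[k] K) {P Q : Place k K} (h : comap P σ = comap Q σ) : P = Q := by
  apply place_ext
  intro z
  have h1 : (comap P σ).1 (σ.symm z) = (comap Q σ).1 (σ.symm z) := by rw [h]
  rwa [comap_val, comap_val, σ.apply_symm_apply] at h1

theorem map_mem_L {P : Place k K} {σ : K ≃ₐ[k] K} (hσ : ∀ z, P.1 (σ z) = P.1 z) {x : K} {n : ℤ}
    (hx : x ∈ L (Finsupp.single P n)) : σ x ∈ L (Finsupp.single P n) := by
  classical
  intro R
  have h1 := hx (comap R σ)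
  rw [comap_val] at h1
  have hP : comap P σ = P := place_ext hσ
  by_cases hR : R = P
  · rw [hR] at h1 ⊢
    rwa [hP] at h1
  · have hR' : comap R σ ≠ P := fun h => hR (comap_injective σ (h.trans hP.symm))
    rw [Finsupp.single_apply, if_neg (Ne.symm hR')] at h1
    rw [Finsupp.single_apply, if_neg (Ne.symm hR)]
    exact h1

section Genus1

variable (hK : IsFunctionField k K) (hgen : genus k K = 1)
    (P : Place k K) (hP : P.deg = 1) (x y : K)
    (hx : x ∈ L (Finsupp.single P 2)) (hx2 : P.ord x = -2)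
    (hy : y ∈ L (Finsupp.single P 3)) (hy3 : P.ord y = -3)

include hK hgen hP hx hx2 hy hy3

theorem mem_L_two {z : K} (hz : z ∈ L (Finsupp.single P 2)) :
    ∃ r u : k, z = algebraMap k K r + algebraMap k K u * x := by
  have h := (basis hK hgen P hP x y hx hx2 hy hy3 2 le_rfl).2
  have hz' : z ∈ L (Finsupp.single P ((2 : ℕ) : ℤ)) := hz
  rw [← h, Submodule.mem_span_range_iff_exists_fun] at hz'
  obtain ⟨c, hc⟩ := hz'
  refine ⟨c (Sum.inl ⟨0, by norm_num⟩), c (Sum.inl ⟨1, by norm_num⟩), ?_⟩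
  rw [← hc, Fintype.sum_sum_type]
  have e1 : (∑ a : Fin (2 / 2 + 1), c (Sum.inl a) • Sum.elim (fun i : Fin (2 / 2 + 1) => x ^ (i : ℕ))
      (fun i : Fin ((2 - 1) / 2) => x ^ (i : ℕ) * y) (Sum.inl a)) =
      c (Sum.inl ⟨0, by norm_num⟩) • (1 : K) + c (Sum.inl ⟨1, by norm_num⟩) • x := by
    have := Fin.sum_univ_two (fun a : Fin 2 => c (Sum.inl a) • Sum.elim (fun i : Fin (2 / 2 + 1) => x ^ (i : ℕ))
      (fun i : Fin ((2 - 1) / 2) => x ^ (i : ℕ) * y) (Sum.inl a))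
    refine this.trans ?_
    simp only [Sum.elim_inl]
    congr 2
    · exact pow_zero x
    · exact pow_one x
  have e2 : (∑ a : Fin ((2 - 1) / 2), c (Sum.inr a) • Sum.elim (fun i : Fin (2 / 2 + 1) => x ^ (i : ℕ))
      (fun i : Fin ((2 - 1) / 2) => x ^ (i : ℕ) * y) (Sum.inr a)) = 0 := by
    apply Finset.sum_eq_zero
    intro a _
    exact absurd a.2 (by norm_num)
  rw [e1, e2, add_zero, Algebra.smul_def, Algebra.smul_def, mul_one]

theorem mem_L_three {z : K} (hz : z ∈ L (Finsupp.single P 3)) :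
    ∃ w q s : k, z = algebraMap k K w + algebraMap k K q * x + algebraMap k K s * y := by
  have h := (basis hK hgen P hP x y hx hx2 hy hy3 3 (by norm_num)).2
  have hz' : z ∈ L (Finsupp.single P ((3 : ℕ) : ℤ)) := hz
  rw [← h, Submodule.mem_span_range_iff_exists_fun] at hz'
  obtain ⟨c, hc⟩ := hz'
  refine ⟨c (Sum.inl ⟨0, by norm_num⟩), c (Sum.inl ⟨1, by norm_num⟩), c (Sum.inr ⟨0, by norm_num⟩), ?_⟩
  rw [← hc, Fintype.sum_sum_type]
  have e1 : (∑ a : Fin (3 / 2 + 1), c (Sum.inl a) • Sum.elim (fun i : Fin (3 / 2 + 1) => x ^ (i : ℕ))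
      (fun i : Fin ((3 - 1) / 2) => x ^ (i : ℕ) * y) (Sum.inl a)) =
      c (Sum.inl ⟨0, by norm_num⟩) • (1 : K) + c (Sum.inl ⟨1, by norm_num⟩) • x := by
    have := Fin.sum_univ_two (fun a : Fin 2 => c (Sum.inl a) • Sum.elim (fun i : Fin (3 / 2 + 1) => x ^ (i : ℕ))
      (fun i : Fin ((3 - 1) / 2) => x ^ (i : ℕ) * y) (Sum.inl a))
    refine this.trans ?_
    simp only [Sum.elim_inl]
    congr 2
    · exact pow_zero x
    · exact pow_one x
  have e2 : (∑ a : Fin ((3 - 1) / 2), c (Sum.inr a) • Sum.elim (fun i : Fin (3 / 2 + 1) => x ^ (i : ℕ))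
      (fun i : Fin ((3 - 1) / 2) => x ^ (i : ℕ) * y) (Sum.inr a)) =
      c (Sum.inr ⟨0, by norm_num⟩) • y := by
    have := Fin.sum_univ_one (fun a : Fin 1 => c (Sum.inr a) • Sum.elim (fun i : Fin (3 / 2 + 1) => x ^ (i : ℕ))
      (fun i : Fin ((3 - 1) / 2) => x ^ (i : ℕ) * y) (Sum.inr a))
    refine this.trans ?_
    simp only [Sum.elim_inr]
    congr 1
    change x ^ 0 * y = y
    rw [pow_zero, one_mul]
  rw [e1, e2, Algebra.smul_def, Algebra.smul_def, Algebra.smul_def, mul_one]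

/-- `1, x, x², x³, y, xy` are linearly independent. -/
theorem coeffs_eq_zero {c₀ c₁ c₂ c₃ d₀ d₁ : k}
    (h : algebraMap k K c₀ + algebraMap k K c₁ * x + algebraMap k K c₂ * x ^ 2 +
      algebraMap k K c₃ * x ^ 3 + algebraMap k K d₀ * y + algebraMap k K d₁ * (x * y) = 0) :
    c₀ = 0 ∧ c₁ = 0 ∧ c₂ = 0 ∧ c₃ = 0 ∧ d₀ = 0 ∧ d₁ = 0 := by
  have hli := (basis hK hgen P hP x y hx hx2 hy hy3 6 (by norm_num)).1
  rw [Fintype.linearIndependent_iff] at hli
  have key := hli (Sum.elim (![c₀, c₁, c₂, c₃] : Fin 4 → k) (![d₀, d₁] : Fin 2 → k)) (by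
    rw [Fintype.sum_sum_type]
    have e1 : (∑ a : Fin (6 / 2 + 1), (Sum.elim (![c₀, c₁, c₂, c₃] : Fin 4 → k) (![d₀, d₁] : Fin 2 → k)) (Sum.inl a) •
        Sum.elim (fun i : Fin (6 / 2 + 1) => x ^ (i : ℕ))
        (fun i : Fin ((6 - 1) / 2) => x ^ (i : ℕ) * y) (Sum.inl a)) =
        c₀ • (1 : K) + c₁ • x + c₂ • x ^ 2 + c₃ • x ^ 3 := by
      have := Fin.sum_univ_four (fun a : Fin 4 => (![c₀, c₁, c₂, c₃] : Fin 4 → k) a • x ^ (a : ℕ))
      refine Eq.trans this ?_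
      simp
    have e2 : (∑ a : Fin ((6 - 1) / 2), (Sum.elim (![c₀, c₁, c₂, c₃] : Fin 4 → k) (![d₀, d₁] : Fin 2 → k)) (Sum.inr a) •
        Sum.elim (fun i : Fin (6 / 2 + 1) => x ^ (i : ℕ))
        (fun i : Fin ((6 - 1) / 2) => x ^ (i : ℕ) * y) (Sum.inr a)) =
        d₀ • y + d₁ • (x * y) := by
      have := Fin.sum_univ_two (fun a : Fin 2 => (![d₀, d₁] : Fin 2 → k) a • (x ^ (a : ℕ) * y))
      refine Eq.trans this ?_
      simp
    rw [e1, e2, ← h]
    simp only [Algebra.smul_def, mul_one]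
    ring)
  have h0 := key (Sum.inl (0 : Fin 4))
  have h1 := key (Sum.inl (1 : Fin 4))
  have h2 := key (Sum.inl (2 : Fin 4))
  have h3 := key (Sum.inl (3 : Fin 4))
  have h4 := key (Sum.inr (0 : Fin 2))
  have h5 := key (Sum.inr (1 : Fin 2))
  exact ⟨h0, h1, h2, h3, h4, h5⟩

end Genus1

end K671.EllAut
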