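import Groth.Agent.FunFld.K671.EllAut

/-! Automorphisms of an elliptic function field fixing the origin: existence and count. -/

namespace K671.EllAut

open FunFld WithZero K671.Basic K671.Ell1 Polynomial

variable {k K : Type*} [Field k] [Field K] [Algebra k K]

/-- The shape of an automorphism fixing the origin. -/
theorem exists_lambda (h2 : (2 : k) ≠ 0) (h3 : (3 : k) ≠ 0)
    (hK : IsFunctionField k K) (hgen : genus k K = 1) (P : Place k K) (hP : P.deg = 1)
    (a b : k) (x y : K)
    (heq : y ^ 2 = x ^ 3 + algebraMap k K a * x + algebraMap k K b)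
    (hx : x ∈ L (Finsupp.single P 2)) (hx2 : P.ord x = -2)
    (hy : y ∈ L (Finsupp.single P 3)) (hy3 : P.ord y = -3)
    (σ : K ≃ₐ[k] K) (hσ : ∀ z, P.1 (σ z) = P.1 z) :
    ∃ l : k, (l ≠ 0 ∧ l ^ 4 * a = a ∧ l ^ 6 * b = b) ∧ σ x = algebraMap k K (l ^ 2) * x ∧
      σ y = algebraMap k K (l ^ 3) * y := by
  have hx0 : x ≠ 0 := by rintro rfl; simp at hx2
  have hy0 : y ≠ 0 := by rintro rfl; simp at hy3
  obtain ⟨r, u, hu⟩ := mem_L_two hK hgen P hP x y hx hx2 hy hy3 (map_mem_L hσ hx)
  obtain ⟨w, q, s, hs⟩ := mem_L_three hK hgen P hP x y hx hx2 hy hy3 (map_mem_L hσ hy)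
  have hvx : P.1 x = exp (2 : ℤ) := by rw [val_eq_exp P hx0, hx2]; rfl
  have hvy : P.1 y = exp (3 : ℤ) := by rw [val_eq_exp P hy0, hy3]; rfl
  have hu0 : u ≠ 0 := by
    rintro rfl
    have h := hσ x
    rw [hu, map_zero, zero_mul, add_zero, hvx] at h
    have h' := P.2.1 r
    rw [h] at h'
    have : exp (2 : ℤ) ≤ exp (0 : ℤ) := by rwa [exp_zero]
    rw [exp_le_exp] at this
    omega
  have hs0 : s ≠ 0 := by
    rintro rfl
    have h := hσ y
    rw [hs, map_zero, zero_mul, add_zero, hvy] at h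
    have h' : P.1 (algebraMap k K w + algebraMap k K q * x) ≤ exp (2 : ℤ) := by
      refine P.1.map_add_le ((P.2.1 w).trans ?_) ?_
      · have : exp (0 : ℤ) ≤ exp (2 : ℤ) := exp_le_exp.2 (by norm_num)
        rwa [exp_zero] at this
      · rw [map_mul, hvx]
        calc P.1 (algebraMap k K q) * exp (2 : ℤ) ≤ 1 * exp (2 : ℤ) := by
              gcongr
              exact P.2.1 q
          _ = _ := one_mul _
    rw [h, exp_le_exp] at h'
    omega
  have hrel : (σ y) ^ 2 = (σ x) ^ 3 + algebraMap k K a * σ x + algebraMap k K b := by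
    have := congrArg σ heq
    simpa [map_add, map_mul, map_pow, AlgEquiv.commutes] using this
  rw [hu, hs] at hrel
  have key := coeffs_eq_zero hK hgen P hP x y hx hx2 hy hy3
    (c₀ := s ^ 2 * b + w ^ 2 - r ^ 3 - a * r - b)
    (c₁ := s ^ 2 * a + 2 * q * w - 3 * u * r ^ 2 - a * u)
    (c₂ := q ^ 2 - 3 * u ^ 2 * r) (c₃ := s ^ 2 - u ^ 3) (d₀ := 2 * s * w) (d₁ := 2 * s * q) (by
      simp only [map_add, map_sub, map_mul, map_pow, map_ofNat]
      linear_combination hrel - algebraMap k K s ^ 2 * heq)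
  obtain ⟨e0, e1, e2, e3, e4, e5⟩ := key
  have hw : w = 0 := by
    rcases mul_eq_zero.1 e4 with h | h
    · exact absurd h (mul_ne_zero h2 hs0)
    · exact h
  have hq : q = 0 := by
    rcases mul_eq_zero.1 e5 with h | h
    · exact absurd h (mul_ne_zero h2 hs0)
    · exact h
  subst hw hq
  have hr : r = 0 := by
    have : 3 * u ^ 2 * r = 0 := by linear_combination -e2
    rcases mul_eq_zero.1 this with h | h
    · exact absurd h (mul_ne_zero h3 (pow_ne_zero _ hu0))
    · exact h
  subst hr
  have e3' : s ^ 2 = u ^ 3 := by linear_combination e3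
  have hl0 : s / u ≠ 0 := div_ne_zero hs0 hu0
  have hl2 : (s / u) ^ 2 = u := by
    field_simp
    linear_combination e3'
  have hl3 : (s / u) ^ 3 = s := by
    rw [pow_succ, hl2]; field_simp
  refine ⟨s / u, ⟨hl0, ?_, ?_⟩, ?_, ?_⟩
  · have : (s / u) ^ 4 = u ^ 2 := by
      calc (s / u) ^ 4 = ((s / u) ^ 2) ^ 2 := by ring
        _ = u ^ 2 := by rw [hl2]
    rw [this]
    have h4 : u * (u ^ 2 * a - a) = 0 := by linear_combination e1 - a * e3'
    rcases mul_eq_zero.1 h4 with h | h
    · exact absurd h hu0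
    · linear_combination h
  · have : (s / u) ^ 6 = s ^ 2 := by
      calc (s / u) ^ 6 = ((s / u) ^ 3) ^ 2 := by ring
        _ = s ^ 2 := by rw [hl3]
    rw [this]
    linear_combination e0
  · rw [hl2, hu, map_zero, zero_add]
  · rw [hl3, hs, map_zero, zero_mul, zero_add, zero_add]

/-- Two algebra maps agreeing on generators of the field. -/
theorem algHom_ext_of_adjoin {L : Type*} [Field L] [Algebra k L] {S : Set K}
    (hS : IntermediateField.adjoin k S = ⊤) {f g : K →ₐ[k] L} (h : ∀ z ∈ S, f z = g z) : f = g := by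
  ext z
  have hz : z ∈ IntermediateField.adjoin k S := by rw [hS]; trivial
  induction hz using IntermediateField.adjoin_induction with
  | mem z hz => exact h z hz
  | algebraMap c => rw [f.commutes, g.commutes]
  | add a b _ _ ha hb => rw [map_add, map_add, ha, hb]
  | inv a _ ha => rw [map_inv₀, map_inv₀, ha]
  | mul a b _ _ ha hb => rw [map_mul, map_mul, ha, hb]

section Exists

variable [IsAlgClosed k] (a b : k)

/-- The Weierstrass polynomial over `k[X]`. -/
noncomputable def wm : k[X][X] := X ^ 2 - C (X ^ 3 + C a * X + C b)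

theorem wm_monic : (wm a b).Monic := by
  unfold wm
  exact monic_X_pow_sub_C _ (by norm_num)

theorem wm_natDegree : (wm a b).natDegree = 2 := natDegree_X_pow_sub_C

variable {a b}

/-- Evaluation at a solution of the Weierstrass equation. -/
noncomputable def ev (x y : K) (h : y ^ 2 = x ^ 3 + algebraMap k K a * x + algebraMap k K b) :
    AdjoinRoot (wm a b) →ₐ[k] K :=
  AdjoinRoot.liftAlgHom (wm a b) (aeval x) y (by
    rw [wm, eval₂_sub, eval₂_pow, eval₂_X, eval₂_C, h]
    simp)

theorem ev_of (x y : K) (h : y ^ 2 = x ^ 3 + algebraMap k K a * x + algebraMap k K b) (g : k[X]) :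
    ev x y h (AdjoinRoot.of _ g) = aeval x g := by
  unfold ev
  rw [AdjoinRoot.liftAlgHom_of]

theorem ev_root (x y : K) (h : y ^ 2 = x ^ 3 + algebraMap k K a * x + algebraMap k K b) :
    ev x y h (AdjoinRoot.root _) = y := by
  unfold ev
  rw [AdjoinRoot.liftAlgHom_root]

theorem val_aeval (P : Place k K) {x : K} (hx : P.ord x = -2) {g : k[X]} (hg : g ≠ 0) :
    P.1 (aeval x g) = exp (2 * (g.natDegree : ℤ)) := by
  have hx0 : x ≠ 0 := by rintro rfl; simp at hx
  have hvx : P.1 x = exp (2 : ℤ) := by rw [val_eq_exp P hx0, hx]; rfl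
  rw [Rat.IsCoord.aeval_eq, map_mul, val_algebraMap P (leadingCoeff_ne_zero.2 hg), one_mul,
    map_multiset_prod, Multiset.map_map]
  have h1 : (g.roots.map (⇑P.1 ∘ fun c => x - algebraMap k K c)) =
      Multiset.replicate g.roots.card (exp (2 : ℤ)) := by
    rw [Multiset.eq_replicate]
    refine ⟨by simp, ?_⟩
    intro e he
    obtain ⟨c, _, rfl⟩ := Multiset.mem_map.1 he
    change P.1 (x - algebraMap k K c) = _
    have hlt : P.1 (algebraMap k K c) < P.1 x := by
      refine lt_of_le_of_lt (P.2.1 c) ?_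
      rw [hvx]
      have : exp (0 : ℤ) < exp (2 : ℤ) := exp_lt_exp.2 (by norm_num)
      rwa [exp_zero] at this
    rw [Valuation.map_sub_eq_of_lt_left _ hlt, hvx]
  rw [h1, Multiset.prod_replicate, ← (IsAlgClosed.splits g).natDegree_eq_card_roots, ← exp_nsmul]
  congr 1
  simp [mul_comm]

theorem ev_injective (P : Place k K) {x y : K}
    (h : y ^ 2 = x ^ 3 + algebraMap k K a * x + algebraMap k K b) (hx : P.ord x = -2)
    (hy : P.ord y = -3) : Function.Injective (ev x y h) := by
  have hy0 : y ≠ 0 := by rintro rfl; simp at hy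
  have hvy : P.1 y = exp (3 : ℤ) := by rw [val_eq_exp P hy0, hy]; rfl
  rw [injective_iff_map_eq_zero]
  intro z hz
  obtain ⟨F, rfl⟩ := AdjoinRoot.mk_surjective z
  -- reduce modulo the Weierstrass polynomial
  set R := F %ₘ wm a b with hR
  have hFR : AdjoinRoot.mk (wm a b) F = AdjoinRoot.mk (wm a b) R := by
    rw [AdjoinRoot.mk_eq_mk]
    have := modByMonic_add_div F (wm a b)
    refine ⟨F /ₘ wm a b, ?_⟩
    rw [hR]
    linear_combination -this
  have hdeg : R.natDegree < 2 := by
    have := natDegree_modByMonic_lt F (wm_monic a b) (by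
      intro h1
      have := wm_natDegree a b
      rw [h1, natDegree_one] at this
      omega)
    rwa [wm_natDegree] at this
  have hRform : R = C (R.coeff 1) * X + C (R.coeff 0) :=
    eq_X_add_C_of_natDegree_le_one (by omega)
  rw [hFR] at hz ⊢
  have hev : aeval x (R.coeff 1) * y + aeval x (R.coeff 0) = 0 := by
    rw [hRform, map_add, map_mul, AdjoinRoot.mk_C, AdjoinRoot.mk_C, AdjoinRoot.mk_X, map_add, map_mul,
      ev_of, ev_of, ev_root] at hz
    exact hz
  have h1 : R.coeff 1 = 0 ∧ R.coeff 0 = 0 := by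
    by_cases hc1 : R.coeff 1 = 0
    · refine ⟨hc1, ?_⟩
      by_contra hc0
      rw [hc1, map_zero, zero_mul, zero_add] at hev
      have := val_aeval P hx hc0
      rw [hev, map_zero] at this
      exact exp_ne_zero this.symm
    · exfalso
      have hB := val_aeval P hx hc1
      have hsum : aeval x (R.coeff 1) * y = -aeval x (R.coeff 0) := by linear_combination hev
      have h5 : P.1 (aeval x (R.coeff 1) * y) = P.1 (aeval x (R.coeff 0)) := by
        rw [hsum, Valuation.map_neg]
      rw [map_mul, hB, hvy, ← exp_add] at h5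
      by_cases hc0 : R.coeff 0 = 0
      · rw [hc0, map_zero, map_zero] at h5
        exact exp_ne_zero h5
      · rw [val_aeval P hx hc0, exp_inj] at h5
        omega
  rw [hRform, h1.1, h1.2]
  simp

theorem exists_algHom (P : Place k K) {x y x' y' : K}
    (h : y ^ 2 = x ^ 3 + algebraMap k K a * x + algebraMap k K b) (hx : P.ord x = -2)
    (hy : P.ord y = -3)
    (h' : y' ^ 2 = x' ^ 3 + algebraMap k K a * x' + algebraMap k K b) (hx' : P.ord x' = -2)
    (hy' : P.ord y' = -3)
    (hxy : IntermediateField.adjoin k ({x, y} : Set K) = ⊤) :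
    ∃ σ : K →ₐ[k] K, σ x = x' ∧ σ y = y' := by
  have hinj := ev_injective P h hx hy
  have hinj' := ev_injective P h' hx' hy'
  let _ : Algebra (AdjoinRoot (wm a b)) K := (ev x y h).toRingHom.toAlgebra
  have halg : ∀ z, algebraMap (AdjoinRoot (wm a b)) K z = ev x y h z := fun _ => rfl
  have hfaith : FaithfulSMul (AdjoinRoot (wm a b)) K :=
    (faithfulSMul_iff_algebraMap_injective _ _).2 hinj
  have hdom : IsDomain (AdjoinRoot (wm a b)) := hinj.isDomain (ev x y h).toRingHom
  have hX : ev x y h (AdjoinRoot.of _ X) = x := by rw [ev_of, aeval_X]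
  have hrange : ∀ z ∈ Algebra.adjoin k ({x, y} : Set K), ∃ w, ev x y h w = z := by
    intro z hz
    have hle : Algebra.adjoin k ({x, y} : Set K) ≤ (ev x y h).range := by
      apply Algebra.adjoin_le
      rintro z (rfl | hz)
      · exact ⟨AdjoinRoot.of _ X, hX⟩
      · rw [Set.mem_singleton_iff] at hz
        subst hz
        exact ⟨AdjoinRoot.root _, ev_root _ _ h⟩
    exact hle hz
  have hfrac : IsFractionRing (AdjoinRoot (wm a b)) K := by
    apply IsFractionRing.of_field
    intro z
    have hz : z ∈ IntermediateField.adjoin k ({x, y} : Set K) := by rw [hxy]; trivial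
    rw [IntermediateField.mem_adjoin_iff_div] at hz
    obtain ⟨r, hr, s, hs, rfl⟩ := hz
    obtain ⟨r', rfl⟩ := hrange r hr
    obtain ⟨s', rfl⟩ := hrange s hs
    exact ⟨r', s', rfl⟩
  have htower : IsScalarTower k (AdjoinRoot (wm a b)) K := IsScalarTower.of_algebraMap_eq fun c =>
    ((ev x y h).commutes c).symm
  let σ : K →ₐ[k] K := IsFractionRing.liftAlgHom (A := AdjoinRoot (wm a b)) (g := ev x' y' h') hinj'
  have hσ : ∀ z : AdjoinRoot (wm a b), σ (ev x y h z) = ev x' y' h' z := fun z =>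
    IsFractionRing.lift_algebraMap (K := K) hinj' z
  refine ⟨σ, ?_, ?_⟩
  · rw [← hX, hσ, ev_of, aeval_X]
  · have := hσ (AdjoinRoot.root _)
    rwa [ev_root, ev_root] at this

/-- Existence of the automorphism attached to `l`. -/
theorem exists_aut (P : Place k K) {x y : K}
    (heq : y ^ 2 = x ^ 3 + algebraMap k K a * x + algebraMap k K b)
    (hxy : IntermediateField.adjoin k ({x, y} : Set K) = ⊤)
    (hx : x ∈ L (Finsupp.single P 2)) (hx2 : P.ord x = -2) (hy3 : P.ord y = -3)
    {l : k} (hl : l ≠ 0) (hla : l ^ 4 * a = a) (hlb : l ^ 6 * b = b) :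
    ∃ σ : K ≃ₐ[k] K, (∀ z, P.1 (σ z) = P.1 z) ∧ σ x = algebraMap k K (l ^ 2) * x ∧
      σ y = algebraMap k K (l ^ 3) * y := by
  classical
  have hx0 : x ≠ 0 := by rintro rfl; simp at hx2
  have hy0 : y ≠ 0 := by rintro rfl; simp at hy3
  have hl' : algebraMap k K l ≠ 0 := (_root_.map_ne_zero _).2 hl
  obtain ⟨σ, hσx, hσy⟩ := exists_algHom P (x := x) (y := y) (x' := algebraMap k K (l ^ 2) * x)
    (y' := algebraMap k K (l ^ 3) * y) heq hx2 hy3 (by
      have h1 := congrArg (algebraMap k K) hla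
      have h2 := congrArg (algebraMap k K) hlb
      simp only [map_mul, map_pow] at h1 h2 ⊢
      linear_combination (algebraMap k K l) ^ 6 * heq + (algebraMap k K l) ^ 2 * x * h1 + h2)
    (by rw [ord_mul P ((_root_.map_ne_zero _).2 (pow_ne_zero _ hl)) hx0, ord_algebraMap, hx2]; norm_num)
    (by rw [ord_mul P ((_root_.map_ne_zero _).2 (pow_ne_zero _ hl)) hy0, ord_algebraMap, hy3]; norm_num) hxy
  have hsurj : Function.Surjective σ := by
    have h1 : IntermediateField.adjoin k ({x, y} : Set K) ≤ σ.fieldRange := by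
      rw [IntermediateField.adjoin_le_iff]
      rintro z (rfl | hz)
      · refine ⟨algebraMap k K ((l ^ 2)⁻¹) * z, ?_⟩
        change σ _ = _
        rw [map_mul, σ.commutes, hσx, ← mul_assoc, ← map_mul,
          inv_mul_cancel₀ (pow_ne_zero _ hl), map_one, one_mul]
      · rw [Set.mem_singleton_iff] at hz
        subst hz
        refine ⟨algebraMap k K ((l ^ 3)⁻¹) * z, ?_⟩
        change σ _ = _
        rw [map_mul, σ.commutes, hσy, ← mul_assoc, ← map_mul,
          inv_mul_cancel₀ (pow_ne_zero _ hl), map_one, one_mul]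
    rw [hxy] at h1
    intro z
    exact h1 (show z ∈ (⊤ : IntermediateField k K) from trivial)
  let τ : K ≃ₐ[k] K := AlgEquiv.ofBijective σ ⟨σ.injective, hsurj⟩
  refine ⟨τ, ?_, hσx, hσy⟩
  have hcomap : comap P τ = P := by
    by_contra hne
    have h1 := hx (comap P τ)
    rw [Finsupp.single_apply, if_neg (Ne.symm hne), comap_val] at h1
    have h2 : P.1 (τ x) = exp (2 : ℤ) := by
      change P.1 (σ x) = _
      rw [hσx, map_mul, val_algebraMap P (pow_ne_zero _ hl), one_mul, val_eq_exp P hx0, hx2]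
      rfl
    rw [h2, exp_le_exp] at h1
    omega
  intro z
  rw [← comap_val, hcomap]

end Exists

/-- Counting roots of unity. -/
theorem card_roots [IsAlgClosed k] (n : ℕ) (hn : (n : k) ≠ 0) :
    Nat.card {l : k // l ^ n = 1} = n := by
  have : NeZero (n : k) := ⟨hn⟩
  have hn0 : n ≠ 0 := by rintro rfl; simp at hn
  have : NeZero n := ⟨hn0⟩
  obtain ⟨ζ, hζ⟩ := HasEnoughRootsOfUnity.exists_primitiveRoot k n
  have h1 := hζ.card_nthRootsFinset
  have h2 : Nat.card {l : k // l ^ n = 1} = Nat.card (nthRootsFinset n (1 : k)) :=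
    Nat.card_congr (Equiv.subtypeEquivRight fun l => by
      rw [mem_nthRootsFinset (Nat.pos_of_ne_zero hn0)])
  rw [h2, Nat.card_eq_fintype_card, Fintype.card_coe, h1]

end K671.EllAut
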