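import Groth.Agent.FunFld.K671.Basic
import Mathlib.Algebra.BigOperators.Intervals

/-! Vanishing dimensions of a linear series `V ≤ L(D)` and the elementary inequalities between them. -/

namespace K671.Limit

open FunFld WithZero K671.Basic

variable {k K : Type*} [Field k] [Field K] [Algebra k K]

/-- `dim V(-nP)`. -/
noncomputable def vd (D : Divisor k K) (V : Submodule k K) (P : Place k K) (n : ℤ) : ℕ :=
  Module.finrank k ↥(V ⊓ L (D - Finsupp.single P n))

/-- `∑_{n=1}^d dim V(-nP)`. -/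
noncomputable def wt (D : Divisor k K) (V : Submodule k K) (P : Place k K) (d : ℕ) : ℕ :=
  ∑ n ∈ Finset.range d, vd D V P ((n : ℤ) + 1)

theorem finite_of_finrank {V : Submodule k K} {r : ℕ} (h : Module.finrank k ↥V = r + 1) :
    FiniteDimensional k ↥V :=
  Module.finite_of_finrank_pos (by omega)

theorem vd_le {D : Divisor k K} {V : Submodule k K} [FiniteDimensional k ↥V] (P : Place k K) (n : ℤ) :
    vd D V P n ≤ Module.finrank k ↥V :=
  Submodule.finrank_mono inf_le_left

theorem vd_anti {D : Divisor k K} {V : Submodule k K} [FiniteDimensional k ↥V] (P : Place k K)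
    {m n : ℤ} (h : m ≤ n) : vd D V P n ≤ vd D V P m := by
  classical
  have : FiniteDimensional k ↥(V ⊓ L (D - Finsupp.single P m)) :=
    Submodule.finiteDimensional_of_le inf_le_left
  refine Submodule.finrank_mono (inf_le_inf_left _ (L_mono ?_))
  intro Q
  rw [Finsupp.sub_apply, Finsupp.sub_apply, Finsupp.single_apply, Finsupp.single_apply]
  split_ifs <;> omega

theorem vd_zero {D : Divisor k K} {V : Submodule k K} (hV : V ≤ L D) (P : Place k K) :
    vd D V P 0 = Module.finrank k ↥V := by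
  unfold vd
  rw [Finsupp.single_zero, sub_zero, inf_eq_left.2 hV]

/-- Vanishing beyond the degree. -/
theorem vd_eq_zero (hK : IsFunctionField k K) {D : Divisor k K} {V : Submodule k K} (P : Place k K)
    {n : ℤ} (h : D.deg < n * P.deg) : vd D V P n = 0 := by
  unfold vd
  rw [Black.L_eq_bot hK _ (by rw [deg_sub, deg_single]; omega), inf_bot_eq, finrank_bot]

/-- `dim V(-mP) + dim V(-nQ) ≤ dim V` when `m + n > deg D`. -/
theorem vd_add_vd_le [IsAlgClosed k] (hK : IsFunctionField k K) {D : Divisor k K}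
    {V : Submodule k K} [FiniteDimensional k ↥V] {P Q : Place k K} (hPQ : P ≠ Q) {m n : ℤ}
    (hn : 0 ≤ n) (h : D.deg < m + n) :
    vd D V P m + vd D V Q n ≤ Module.finrank k ↥V := by
  have h1 : FiniteDimensional k ↥(V ⊓ L (D - Finsupp.single P m)) :=
    Submodule.finiteDimensional_of_le inf_le_left
  have h2 : FiniteDimensional k ↥(V ⊓ L (D - Finsupp.single Q n)) :=
    Submodule.finiteDimensional_of_le inf_le_left
  have hbot : (V ⊓ L (D - Finsupp.single P m)) ⊓ (V ⊓ L (D - Finsupp.single Q n)) = ⊥ := by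
    rw [eq_bot_iff]
    rintro x ⟨hx1, hx2⟩
    have hx := L_inf_L hPQ hn hx1.2 hx2.2
    rw [Black.L_eq_bot hK _ (by
      rw [deg_sub, deg_sub, deg_single, deg_single, place_deg_eq_one hK P, place_deg_eq_one hK Q]
      push_cast; omega)] at hx
    exact hx
  have h3 := Submodule.finrank_sup_add_finrank_inf_eq (V ⊓ L (D - Finsupp.single P m))
    (V ⊓ L (D - Finsupp.single Q n))
  rw [hbot, finrank_bot, add_zero] at h3
  unfold vd
  rw [← h3]
  exact Submodule.finrank_mono (sup_le inf_le_left inf_le_left)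

/-- `w(P) + w(Q) ≤ (r+1)(d-r)` in unnormalised form. -/
theorem wt_add_wt_le [IsAlgClosed k] (hK : IsFunctionField k K) {D : Divisor k K} {d : ℕ}
    (hD : D.deg = d) {V : Submodule k K} {r : ℕ} (hV : Module.finrank k ↥V = r + 1)
    {P Q : Place k K} (hPQ : P ≠ Q) :
    wt D V P d + wt D V Q d ≤ (r + 1) * d := by
  have := finite_of_finrank hV
  unfold wt
  rw [← Finset.sum_range_reflect (fun n => vd D V Q ((n : ℤ) + 1)) d, ← Finset.sum_add_distrib]
  have h1 : ∀ n ∈ Finset.range d, vd D V P ((n : ℤ) + 1) +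
      vd D V Q (((d - 1 - n : ℕ) : ℤ) + 1) ≤ r + 1 := by
    intro n hn
    rw [Finset.mem_range] at hn
    rw [← hV]
    exact vd_add_vd_le hK hPQ (by omega) (by omega)
  refine (Finset.sum_le_sum h1).trans ?_
  rw [Finset.sum_const, Finset.card_range, smul_eq_mul, mul_comm]

/-- compatible aspects. -/
def Compat {KY KZ : Type*} [Field KY] [Field KZ] [Algebra k KY] [Algebra k KZ]
    (DY : Divisor k KY) (VY : Submodule k KY) (P : Place k KY)
    (DZ : Divisor k KZ) (VZ : Submodule k KZ) (Q : Place k KZ) (d r : ℕ) : Prop :=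
  ∀ m : ℕ, m ≤ d + 1 → vd DY VY P (m : ℤ) + vd DZ VZ Q ((d : ℤ) + 1 - m) = r + 1

theorem Compat.wt_add {KY KZ : Type*} [Field KY] [Field KZ] [Algebra k KY] [Algebra k KZ]
    {DY : Divisor k KY} {VY : Submodule k KY} {P : Place k KY}
    {DZ : Divisor k KZ} {VZ : Submodule k KZ} {Q : Place k KZ} {d r : ℕ}
    (h : Compat DY VY P DZ VZ Q d r) : wt DY VY P d + wt DZ VZ Q d = (r + 1) * d := by
  unfold wt
  rw [← Finset.sum_range_reflect (fun n => vd DZ VZ Q ((n : ℤ) + 1)) d, ← Finset.sum_add_distrib]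
  have h1 : ∀ n ∈ Finset.range d, vd DY VY P ((n : ℤ) + 1) +
      vd DZ VZ Q (((d - 1 - n : ℕ) : ℤ) + 1) = r + 1 := by
    intro n hn
    rw [Finset.mem_range] at hn
    have := h (n + 1) (by omega)
    push_cast at this
    rw [show (((d - 1 - n : ℕ) : ℤ) + 1) = (d : ℤ) + 1 - (n + 1) by omega]
    exact this
  rw [Finset.sum_congr rfl h1, Finset.sum_const, Finset.card_range, smul_eq_mul, mul_comm]

theorem two_mul_half (r : ℕ) : 2 * (r * (r + 1) / 2) = r * (r + 1) :=
  Nat.two_mul_div_two_of_even (Nat.even_mul_succ_self r)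

end K671.Limit
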