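import Groth.Agent.FunFld.K671.RatPlucker

/-! Members of a linear series vanishing only at two places. -/

namespace K671.Pencil

open FunFld K671.Basic K671.Limit K671.Rat K671.RatPlucker

variable {k K : Type*} [Field k] [Field K] [Algebra k K] [IsAlgClosed k]

/-- If `dim V(-(d-m)P) + dim V(-mP') > dim V` then some member of `V` has divisor `(d-m)P + mP'`. -/
theorem exists_member (hK : IsFunctionField k K) {D : Divisor k K} {d : ℕ} (hD : D.deg = d)
    {V : Submodule k K} {r : ℕ} (hVr : Module.finrank k ↥V = r + 1) {P P' : Place k K}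
    (hPP : P ≠ P') {m : ℤ} (hm0 : 0 ≤ m)
    (h : r + 1 < vd D V P ((d : ℤ) - m) + vd D V P' m) :
    ∃ f ∈ V, f ≠ 0 ∧ FunFld.div k f + D = Finsupp.single P ((d : ℤ) - m) + Finsupp.single P' m := by
  have := finite_of_finrank hVr
  have h1 : FiniteDimensional k ↥(V ⊓ L (D - Finsupp.single P ((d : ℤ) - m))) :=
    Submodule.finiteDimensional_of_le inf_le_left
  have h2 : FiniteDimensional k ↥(V ⊓ L (D - Finsupp.single P' m)) :=
    Submodule.finiteDimensional_of_le inf_le_left
  have h3 := Submodule.finrank_sup_add_finrank_inf_eq (V ⊓ L (D - Finsupp.single P ((d : ℤ) - m)))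
    (V ⊓ L (D - Finsupp.single P' m))
  have h4 : Module.finrank k ↥((V ⊓ L (D - Finsupp.single P ((d : ℤ) - m))) ⊔
      (V ⊓ L (D - Finsupp.single P' m))) ≤ r + 1 := by
    rw [← hVr]
    exact Submodule.finrank_mono (sup_le inf_le_left inf_le_left)
  unfold vd at h
  obtain ⟨f, hf, hf0⟩ : ∃ f ∈ (V ⊓ L (D - Finsupp.single P ((d : ℤ) - m))) ⊓
      (V ⊓ L (D - Finsupp.single P' m)), f ≠ 0 := by
    by_contra hc
    push Not at hc
    have := (Submodule.eq_bot_iff _).2 hc
    rw [this, finrank_bot] at h3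
    omega
  refine ⟨f, hf.1.1, hf0, ?_⟩
  have h5 := L_inf_L hPP hm0 hf.1.2 hf.2.2
  have h6 := eq_zero_of_deg_zero hK ((Basic.mem_L_iff hK hf0).1 h5) (by
    rw [deg_add, Basic.deg_sub, Basic.deg_sub, Black.deg_div hK, hD, deg_single, deg_single,
      place_deg_eq_one hK P, place_deg_eq_one hK P']
    push_cast
    ring)
  rw [← sub_eq_zero, ← h6]
  abel

end K671.Pencil
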