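import Mathlib.LinearAlgebra.Vandermonde
import Mathlib.RingTheory.Polynomial.Pochhammer
import Mathlib.Algebra.Polynomial.Derivative
import Mathlib.Algebra.Polynomial.Roots
import Mathlib.Tactic

/-! Wronskians of polynomials in characteristic zero and the Plücker inequality on the projective
line. -/

namespace K671.WronskPoly

open Polynomial

variable {k : Type*} [Field k]

/-- The Wronskian of a tuple of polynomials. -/
noncomputable def wr {n : ℕ} (f : Fin n → k[X]) : k[X] :=
  Matrix.det (Matrix.of fun i j : Fin n => derivative^[(j : ℕ)] (f i))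

/-- `0 + 1 + ⋯ + (n - 1)`. -/
def tri (n : ℕ) : ℕ := ∑ j : Fin n, (j : ℕ)

theorem two_mul_tri (n : ℕ) : 2 * tri (n + 1) = n * (n + 1) := by
  unfold tri
  rw [Fin.sum_univ_eq_sum_range (fun i => i), Finset.sum_range_id, Nat.add_sub_cancel, mul_comm (n + 1) n]
  exact Nat.two_mul_div_two_of_even (Nat.even_mul_succ_self n)

theorem det_scaled {n : ℕ} (f : Fin n → k[X]) (a : k) :
    Matrix.det (Matrix.of fun i j : Fin n => (X - C a) ^ (j : ℕ) * derivative^[(j : ℕ)] (f i)) =
      (X - C a) ^ tri n * wr f := by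
  have := Matrix.det_mul_row (fun j : Fin n => (X - C a) ^ (j : ℕ))
    (Matrix.of fun i j : Fin n => derivative^[(j : ℕ)] (f i))
  rw [Finset.prod_pow_eq_pow_sum] at this
  exact this

theorem pow_dvd_scaled {f : k[X]} {a : k} {m : ℕ} (h : (X - C a) ^ m ∣ f) (j : ℕ) :
    (X - C a) ^ m ∣ (X - C a) ^ j * derivative^[j] f := by
  have h1 := pow_sub_dvd_iterate_derivative_of_pow_dvd j h
  refine (pow_dvd_pow (X - C a) (show m ≤ j + (m - j) by omega)).trans ?_
  rw [pow_add]
  exact mul_dvd_mul_left _ h1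

theorem pow_dvd_wr {n : ℕ} {f : Fin n → k[X]} {a : k} {m : Fin n → ℕ}
    (h : ∀ i, (X - C a) ^ m i ∣ f i) : (X - C a) ^ (∑ i, m i) ∣ (X - C a) ^ tri n * wr f := by
  choose g hg using fun i => fun j => pow_dvd_scaled (h i) j
  rw [← det_scaled]
  have := Matrix.det_mul_column (fun i : Fin n => (X - C a) ^ m i)
    (Matrix.of fun i j : Fin n => g i (j : ℕ))
  rw [Finset.prod_pow_eq_pow_sum] at this
  refine ⟨_, Eq.trans ?_ this⟩
  congr 1
  ext i j
  simp only [Matrix.of_apply]
  rw [hg i j]

theorem sum_le_rootMultiplicity {n : ℕ} {f : Fin n → k[X]} {a : k} {m : Fin n → ℕ}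
    (h : ∀ i, (X - C a) ^ m i ∣ f i) (hf : wr f ≠ 0) :
    ∑ i, m i ≤ tri n + rootMultiplicity a (wr f) := by
  have h1 := pow_dvd_wr h
  have hne : (X - C a) ^ tri n * wr f ≠ 0 := mul_ne_zero (pow_ne_zero _ (X_sub_C_ne_zero a)) hf
  rw [← le_rootMultiplicity_iff hne, rootMultiplicity_mul hne, rootMultiplicity_X_sub_C_pow] at h1
  exact h1

theorem coeff_prod_le {ι : Type*} (s : Finset ι) (f : ι → k[X]) (d : ι → ℕ)
    (h : ∀ i ∈ s, natDegree (f i) ≤ d i) :
    (∏ i ∈ s, f i).coeff (∑ i ∈ s, d i) = ∏ i ∈ s, (f i).coeff (d i) ∧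
      natDegree (∏ i ∈ s, f i) ≤ ∑ i ∈ s, d i := by
  classical
  induction s using Finset.induction_on with
  | empty => simp
  | insert a s ha ih =>
    obtain ⟨h1, h2⟩ := ih fun i hi => h i (Finset.mem_insert_of_mem hi)
    have h3 := h a (Finset.mem_insert_self a s)
    rw [Finset.prod_insert ha, Finset.sum_insert ha, Finset.prod_insert ha,
      coeff_mul_add_eq_of_natDegree_le h3 h2, h1]
    exact ⟨rfl, natDegree_mul_le.trans (by omega)⟩

theorem coeff_det {n : ℕ} (M : Matrix (Fin n) (Fin n) k[X]) (d : Fin n → ℕ)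
    (h : ∀ i j, natDegree (M i j) ≤ d i) :
    (Matrix.det M).coeff (∑ i, d i) = Matrix.det (Matrix.of fun i j => (M i j).coeff (d i)) ∧
      natDegree (Matrix.det M) ≤ ∑ i, d i := by
  have hp : ∀ σ : Equiv.Perm (Fin n), (∏ i, M (σ i) i).coeff (∑ i, d i) =
      ∏ i, (M (σ i) i).coeff (d (σ i)) ∧ natDegree (∏ i, M (σ i) i) ≤ ∑ i, d i := by
    intro σ
    have := coeff_prod_le Finset.univ (fun i => M (σ i) i) (fun i => d (σ i)) (fun i _ => h _ _)
    rwa [Equiv.sum_comp σ d] at this
  rw [Matrix.det_apply, Matrix.det_apply]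
  constructor
  · rw [finsetSum_coeff]
    refine Finset.sum_congr rfl fun σ _ => ?_
    rw [coeff_smul, (hp σ).1]
    rfl
  · refine natDegree_sum_le_of_forall_le _ _ fun σ _ => ?_
    exact (natDegree_smul_le _ _).trans (hp σ).2

theorem coeff_scaled (f : k[X]) (d j : ℕ) (h : natDegree f ≤ d) :
    natDegree (X ^ j * derivative^[j] f) ≤ d ∧
      (X ^ j * derivative^[j] f).coeff d = (d.descFactorial j : k) * f.coeff d := by
  constructor
  · by_cases hj : natDegree f < j
    · rw [iterate_derivative_eq_zero hj, mul_zero]; simp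
    · refine natDegree_mul_le.trans ?_
      rw [natDegree_X_pow]
      have := natDegree_iterate_derivative f j
      omega
  · rw [coeff_X_pow_mul']
    split_ifs with hj
    · rw [coeff_iterate_derivative, Nat.sub_add_cancel hj, nsmul_eq_mul]
    · rw [Nat.descFactorial_of_lt (by omega)]
      simp

/-- The top coefficient of the Wronskian of polynomials of distinct degrees. -/
theorem wr_top {n : ℕ} (f : Fin n → k[X]) (d : Fin n → ℕ) (h : ∀ i, natDegree (f i) ≤ d i) :
    ((X : k[X]) ^ tri n * wr f).coeff (∑ i, d i) =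
      (∏ i, (f i).coeff (d i)) * (Matrix.vandermonde fun i => (d i : k)).det ∧
      natDegree ((X : k[X]) ^ tri n * wr f) ≤ ∑ i, d i := by
  have h0 := det_scaled f 0
  simp only [C_0, sub_zero] at h0
  rw [← h0]
  obtain ⟨h1, h2⟩ := coeff_det (Matrix.of fun i j : Fin n => X ^ (j : ℕ) * derivative^[(j : ℕ)] (f i)) d
    (fun i j => (coeff_scaled (f i) (d i) j (h i)).1)
  refine ⟨?_, h2⟩
  rw [h1, Matrix.det_eval_matrixOfPolynomials_eq_det_vandermonde (fun i => (d i : k))
    (fun j => descPochhammer k j) (fun j => descPochhammer_natDegree k j)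
    (fun j => monic_descPochhammer k j), ← Matrix.det_mul_column]
  congr 1
  ext i j
  simp only [Matrix.of_apply]
  rw [(coeff_scaled (f i) (d i) j (h i)).2, descPochhammer_eval_eq_descFactorial, mul_comm]

theorem wr_ne_zero [CharZero k] {n : ℕ} {f : Fin n → k[X]} (hf : ∀ i, f i ≠ 0)
    (hinj : Function.Injective fun i => natDegree (f i)) : wr f ≠ 0 := by
  intro h0
  have h1 := (wr_top f (fun i => natDegree (f i)) (fun i => le_rfl)).1
  rw [h0, mul_zero, coeff_zero] at h1
  refine (mul_ne_zero ?_ ?_) h1.symm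
  · exact Finset.prod_ne_zero_iff.2 fun i _ => leadingCoeff_ne_zero.2 (hf i)
  · rw [Matrix.det_vandermonde_ne_zero_iff]
    exact fun i j hij => hinj (Nat.cast_injective hij)

theorem natDegree_wr_add {n : ℕ} (f : Fin n → k[X]) (d : Fin n → ℕ)
    (h : ∀ i, natDegree (f i) ≤ d i) (hw : wr f ≠ 0) : natDegree (wr f) + tri n ≤ ∑ i, d i := by
  have := (wr_top f d h).2
  rwa [natDegree_mul (pow_ne_zero _ X_ne_zero) hw, natDegree_X_pow, add_comm] at this

/-- Change of basis. -/
theorem wr_lin {n : ℕ} (f g : Fin n → k[X]) (A : Matrix (Fin n) (Fin n) k)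
    (h : ∀ i, g i = ∑ l, A i l • f l) : wr g = C A.det * wr f := by
  unfold wr
  rw [RingHom.map_det, ← Matrix.det_mul]
  congr 1
  ext i j
  rw [Matrix.mul_apply, Matrix.of_apply, h i, iterate_derivative_sum]
  congr 1
  refine Finset.sum_congr rfl fun l _ => ?_
  rw [RingHom.mapMatrix_apply, Matrix.map_apply, Matrix.of_apply, ← smul_eq_C_mul,
    iterate_derivative_smul]

theorem wr_dvd_of_span {n : ℕ} {f g : Fin n → k[X]}
    (h : ∀ i, g i ∈ Submodule.span k (Set.range f)) : ∃ c : k, wr g = C c * wr f := by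
  have h1 : ∀ i, ∃ c : Fin n → k, ∑ l, c l • f l = g i := fun i =>
    (Submodule.mem_span_range_iff_exists_fun k).1 (h i)
  choose A hA using h1
  exact ⟨_, wr_lin f g (Matrix.of A) fun i => by simp [hA]⟩

/-- The Plücker inequality on the projective line, in terms of adapted bases. -/
theorem plucker {ι : Type*} {n : ℕ} (c : Fin n → k[X]) (d : Fin n → ℕ)
    (hc : ∀ i, natDegree (c i) ≤ d i) (hw : wr c ≠ 0) (S : Finset ι) (a : ι → k)
    (ha : Set.InjOn a S) (b : ι → Fin n → k[X]) (m : ι → Fin n → ℕ)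
    (hb : ∀ s ∈ S, ∀ i, (X - C (a s)) ^ m s i ∣ b s i)
    (hspan : ∀ s ∈ S, ∀ i, c i ∈ Submodule.span k (Set.range (b s))) :
    (∑ s ∈ S, ∑ i, m s i) + tri n ≤ (∑ i, d i) + S.card * tri n := by
  classical
  have h1 : ∀ s ∈ S, ∑ i, m s i ≤ tri n + rootMultiplicity (a s) (wr c) := by
    intro s hs
    obtain ⟨e, he⟩ := wr_dvd_of_span (hspan s hs)
    have hwb : wr (b s) ≠ 0 := by
      intro h; rw [h, mul_zero] at he; exact hw he
    refine (sum_le_rootMultiplicity (hb s hs) hwb).trans ?_
    have : wr (b s) ∣ wr c := ⟨C e, by rw [he, mul_comm]⟩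
    have := rootMultiplicity_le_rootMultiplicity_of_dvd hw this (a s)
    omega
  have h2 := Finset.sum_le_sum h1
  rw [Finset.sum_add_distrib, Finset.sum_const, smul_eq_mul] at h2
  have h3 : ∑ s ∈ S, rootMultiplicity (a s) (wr c) ≤ natDegree (wr c) := by
    have h4 : ∑ s ∈ S, rootMultiplicity (a s) (wr c) =
        ∑ x ∈ S.image a, (wr c).roots.count x := by
      rw [Finset.sum_image ha]
      exact Finset.sum_congr rfl fun _ _ => (count_roots _).symm
    rw [h4]
    refine le_trans ?_ (card_roots' (wr c))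
    have h5 : (∑ x ∈ S.image a, Multiset.replicate ((wr c).roots.count x) x) ≤ (wr c).roots := by
      rw [Multiset.le_iff_count]
      intro x
      rw [Multiset.count_sum']
      simp only [Multiset.count_replicate]
      by_cases hx : x ∈ S.image a
      · rw [Finset.sum_eq_single x]
        · simp
        · intro y _ hy; simp [hy]
        · intro h; exact absurd hx h
      · rw [Finset.sum_eq_zero]
        · exact Nat.zero_le _
        · intro y hy
          have : y ≠ x := fun h => hx (h ▸ hy)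
          simp [this]
    have h6 := Multiset.card_le_card h5
    simpa [map_sum] using h6
  have h7 := natDegree_wr_add c d hc hw
  omega

end K671.WronskPoly
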