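import Groth.Agent.FunFld.K671.Rat
import Groth.Agent.FunFld.K671.WronskPoly
import Groth.Agent.FunFld.K671.Adapted

/-! The Plücker inequality for linear series on a function field of genus zero in characteristic zero. -/

namespace K671.RatPlucker

open FunFld WithZero K671.Basic K671.Limit K671.Rat Polynomial

variable {k K : Type*} [Field k] [Field K] [Algebra k K] [IsAlgClosed k]

/-- The dimensions `dim V(-nP)` drop by at most one at each step. -/
theorem vd_le_succ (hK : IsFunctionField k K) {D : Divisor k K} {V : Submodule k K}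
    [FiniteDimensional k ↥V] (P : Place k K) {n : ℤ} (hn : 0 ≤ n) :
    vd D V P n ≤ vd D V P (n + 1) + 1 := by
  classical
  unfold vd
  have hle : V ⊓ L (D - Finsupp.single P (n + 1)) ≤ V ⊓ L (D - Finsupp.single P n) := by
    refine inf_le_inf_left _ (L_mono ?_)
    intro Q
    rw [Finsupp.sub_apply, Finsupp.sub_apply, Finsupp.single_apply, Finsupp.single_apply]
    split_ifs <;> omega
  have h1 : FiniteDimensional k ↥(V ⊓ L (D - Finsupp.single P n)) :=
    Submodule.finiteDimensional_of_le inf_le_left
  have h2 : FiniteDimensional k ↥(V ⊓ L (D - Finsupp.single P (n + 1))) :=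
    Submodule.finiteDimensional_of_le inf_le_left
  by_cases heq : V ⊓ L (D - Finsupp.single P n) ≤ V ⊓ L (D - Finsupp.single P (n + 1))
  · rw [le_antisymm heq hle]; omega
  · obtain ⟨f, hf, hf'⟩ := Set.not_subset.1 heq
    have hfn := (mem_L_sub_single hn).1 hf.2
    have hfv : P.1 f = exp (D P - n) := by
      refine le_antisymm hfn.2 ?_
      by_contra hlt
      push Not at hlt
      apply hf'
      refine ⟨hf.1, (mem_L_sub_single (by omega)).2 ⟨hfn.1, ?_⟩⟩
      have hf0 : f ≠ 0 := by
        rintro rfl; exact hf' (Submodule.zero_mem _)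
      rw [val_eq_exp P hf0] at hlt ⊢
      rw [exp_lt_exp] at hlt
      rw [exp_le_exp]
      omega
    have hf0 : f ≠ 0 := by
      rintro rfl; exact hf' (Submodule.zero_mem _)
    have hsup : V ⊓ L (D - Finsupp.single P n) ≤
        (V ⊓ L (D - Finsupp.single P (n + 1))) ⊔ Submodule.span k {f} := by
      intro g hg
      have hgn := (mem_L_sub_single hn).1 hg.2
      obtain ⟨c, hc⟩ := K666.Basic.exists_const hK P (g / f) (by
        rw [map_div₀, hfv]
        exact div_le_one_of_le₀ hgn.2 zero_le)
      have hg' : g = (g - c • f) + c • f := by ring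
      rw [hg']
      refine Submodule.add_mem_sup ?_ (Submodule.smul_mem _ _ (Submodule.mem_span_singleton_self f))
      refine ⟨Submodule.sub_mem _ hg.1 (Submodule.smul_mem _ _ hf.1),
        (mem_L_sub_single (by omega)).2 ⟨Submodule.sub_mem _ hgn.1 (Submodule.smul_mem _ _ hfn.1), ?_⟩⟩
      by_cases hz : g - c • f = 0
      · rw [hz, map_zero]; exact zero_le
      have h3 : g - c • f = (g / f - algebraMap k K c) * f := by
        rw [Algebra.smul_def]; field_simp
      have h4 : P.1 (g - c • f) < exp (D P - n) := by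
        rw [h3, map_mul, hfv]
        calc P.1 (g / f - algebraMap k K c) * exp (D P - n) < 1 * exp (D P - n) := by
              gcongr
              exact exp_pos
          _ = _ := one_mul _
      rw [val_eq_exp P hz, exp_lt_exp] at h4
      rw [val_eq_exp P hz, exp_le_exp]
      omega
    have h3 := Submodule.finrank_mono hsup
    have h4 := Submodule.finrank_add_le_finrank_add_finrank
      (V ⊓ L (D - Finsupp.single P (n + 1))) (Submodule.span k {f})
    rw [finrank_span_singleton hf0] at h4
    exact h3.trans h4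

/-- An adapted basis of `V` at `P`. -/
theorem exists_adapted_at (hK : IsFunctionField k K) {D : Divisor k K} {d : ℕ} (hD : D.deg = d)
    {V : Submodule k K} (hV : V ≤ L D) {r : ℕ} (hVr : Module.finrank k ↥V = r + 1) (P : Place k K) :
    ∃ (m : Fin (r + 1) → ℕ) (b : Fin (r + 1) → K), StrictMono m ∧ LinearIndependent k b ∧
      (∀ i, b i ∈ V) ∧ (∀ i, P.1 (b i) = exp (D P - m i)) ∧ (∀ i, m i ≤ d) ∧
      ∑ i, m i = wt D V P d := by
  have hfin := finite_of_finrank hVr
  let F : ℕ → Submodule k K := fun n => V ⊓ L (D - Finsupp.single P (n : ℤ))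
  have hF0 : F 0 = V := by
    change V ⊓ L (D - Finsupp.single P ((0 : ℕ) : ℤ)) = V
    rw [Nat.cast_zero, Finsupp.single_zero, sub_zero, inf_eq_left.2 hV]
  have hanti : Antitone F := by
    intro i j hij
    classical
    refine inf_le_inf_left _ (L_mono ?_)
    intro Q
    rw [Finsupp.sub_apply, Finsupp.sub_apply, Finsupp.single_apply, Finsupp.single_apply]
    split_ifs <;> omega
  have hfr : ∀ n, Module.finrank k (F n) = vd D V P (n : ℤ) := fun n => rfl
  obtain ⟨m, b, hm, hb, hbF, hbF', hmN, hsum⟩ := Adapted.exists_adapted (d + 1) F hanti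
    (by rw [hF0]; exact hfin)
    (fun n => by
      rw [hfr, hfr]
      have := vd_le_succ (V := V) (D := D) hK P (n := (n : ℤ)) (by omega)
      push_cast
      exact this)
    (by
      change V ⊓ L (D - Finsupp.single P ((d + 1 : ℕ) : ℤ)) = ⊥
      rw [Black.L_eq_bot hK _ (by
        rw [Basic.deg_sub, deg_single, place_deg_eq_one hK P, hD]; push_cast; omega), inf_bot_eq])
    (r + 1) (by rw [hF0]; exact hVr)
  have hbV : ∀ i, b i ∈ V := fun i => (hbF i).1
  refine ⟨m, b, hm, hb, hbV, ?_, fun i => Nat.lt_succ_iff.1 (hmN i), ?_⟩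
  · intro i
    have h1 := ((mem_L_sub_single (by omega : (0 : ℤ) ≤ m i)).1 (hbF i).2).2
    refine le_antisymm h1 ?_
    by_contra hlt
    push Not at hlt
    apply hbF' i
    refine ⟨hbV i, (mem_L_sub_single (by omega)).2 ⟨hV (hbV i), ?_⟩⟩
    have hb0 : b i ≠ 0 := hb.ne_zero i
    rw [val_eq_exp P hb0] at hlt ⊢
    rw [exp_lt_exp] at hlt
    rw [exp_le_exp]
    push_cast
    omega
  · rw [hsum, Finset.sum_range_succ]
    have h0 : Module.finrank k (F (d + 1)) = 0 := by
      rw [hfr]
      apply vd_eq_zero hK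
      rw [hD, place_deg_eq_one hK P]
      push_cast
      omega
    rw [h0, add_zero]
    unfold wt
    refine Finset.sum_congr rfl fun n _ => ?_
    rw [hfr]
    push_cast
    rfl

/-- In positive genus a divisor of degree one has at most a one-dimensional space of sections. -/
theorem ell_le_one (hK : IsFunctionField k K) (hg : 0 < genus k K) {E : Divisor k K}
    (hE : E.deg = 1) : ell E ≤ 1 := by
  by_contra hcon
  push Not at hcon
  obtain ⟨P⟩ := K660.Places.nonempty_place hK
  have hfin := Black.finite_L hK E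
  have h1 := vd_le_succ (V := L E) (D := E) hK P (n := 0) le_rfl
  rw [vd_zero le_rfl] at h1
  have h2 : 1 ≤ vd E (L E) P (0 + 1) := by
    change 2 ≤ Module.finrank k (L E) at hcon
    omega
  obtain ⟨f, hf, hf0⟩ : ∃ f ∈ L E ⊓ L (E - Finsupp.single P (0 + 1)), f ≠ 0 := by
    by_contra hc
    push Not at hc
    have : L E ⊓ L (E - Finsupp.single P (0 + 1)) = ⊥ := (Submodule.eq_bot_iff _).2 hc
    unfold vd at h2
    rw [this, finrank_bot] at h2
    omega
  rw [zero_add] at hf
  have hdiv : FunFld.div k f + (E - Finsupp.single P 1) = 0 :=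
    eq_zero_of_deg_zero hK ((Basic.mem_L_iff hK hf0).1 hf.2) (by
      rw [deg_add, Basic.deg_sub, Black.deg_div hK, hE, deg_single, place_deg_eq_one hK P]; norm_num)
  -- multiplication by `f⁻¹` carries `L(P)` to `L(E)`
  have hEP : ∀ Q : Place k K, E Q = (Finsupp.single P 1 : Divisor k K) Q - Q.ord f := by
    intro Q
    have := congrArg (fun D : Divisor k K => D Q) hdiv
    simp only [Finsupp.add_apply, Finsupp.sub_apply, div_apply hK, Finsupp.coe_zero,
      Pi.zero_apply] at this
    omega
  have hle : ell E ≤ ell (Finsupp.single P 1 : Divisor k K) := by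
    have hfin1 := Black.finite_L hK (Finsupp.single P 1 : Divisor k K)
    unfold ell
    let φ : L E →ₗ[k] L (Finsupp.single P 1 : Divisor k K) :=
      { toFun := fun x => ⟨x * f⁻¹, fun Q => by
          have hx := x.2 Q
          rw [map_mul, map_inv₀, val_eq_exp Q hf0, ← exp_neg]
          calc Q.1 (x : K) * exp (- -Q.ord f) ≤ exp (E Q) * exp (- -Q.ord f) := by gcongr
            _ = _ := by rw [← exp_add, hEP Q]; congr 1; ring⟩
        map_add' := fun a b => Subtype.ext (add_mul _ _ _)
        map_smul' := fun c a => Subtype.ext (smul_mul_assoc _ _ _) }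
    apply LinearMap.finrank_le_finrank_of_injective (f := φ)
    intro a b hab
    have := congrArg Subtype.val hab
    exact Subtype.ext (mul_right_cancel₀ (inv_ne_zero hf0) this)
  obtain ⟨t, ht⟩ := exists_coord_of_ell hK P (by omega)
  have := ht.genus_eq_zero hK
  omega

theorem le_of_strictMono {n : ℕ} {m : Fin n → ℕ} (hm : StrictMono m) (i : Fin n) :
    (i : ℕ) ≤ m i := by
  obtain ⟨i, hi⟩ := i
  induction i with
  | zero => exact Nat.zero_le _
  | succ i ih =>
    have h1 := ih (by omega)
    have h2 := hm (show (⟨i, by omega⟩ : Fin n) < ⟨i + 1, hi⟩ from Nat.lt_succ_self i)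
    simp only at h1 h2 ⊢
    omega

/-- The weights are nonnegative. -/
theorem tri_le_wt (hK : IsFunctionField k K) {D : Divisor k K} {d : ℕ} (hD : D.deg = d)
    {V : Submodule k K} (hV : V ≤ L D) {r : ℕ} (hVr : Module.finrank k ↥V = r + 1) (P : Place k K) :
    WronskPoly.tri (r + 1) ≤ wt D V P d := by
  obtain ⟨m, b, hm, -, -, -, -, hsum⟩ := exists_adapted_at hK hD hV hVr P
  rw [← hsum]
  exact Finset.sum_le_sum fun i _ => le_of_strictMono hm i

theorem span_eq_of_linearIndependent {V : Submodule k K} {r : ℕ}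
    (hVr : Module.finrank k ↥V = r + 1) {b : Fin (r + 1) → K} (hb : LinearIndependent k b)
    (hbV : ∀ i, b i ∈ V) : Submodule.span k (Set.range b) = V := by
  have := finite_of_finrank hVr
  apply Submodule.eq_of_le_of_finrank_eq
  · rw [Submodule.span_le]
    rintro _ ⟨i, rfl⟩
    exact hbV i
  · rw [finrank_span_eq_card hb, Fintype.card_fin, hVr]

/-- Plücker on the projective line, with a distinguished place. -/
theorem plucker_aux [CharZero k] (hK : IsFunctionField k K) (hg : genus k K = 0) {D : Divisor k K}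
    {d : ℕ} (hD : D.deg = d) {V : Submodule k K} (hV : V ≤ L D) {r : ℕ}
    (hVr : Module.finrank k ↥V = r + 1) (P₀ : Place k K) (S : Finset (Place k K)) (hS : P₀ ∉ S) :
    (∑ P ∈ S, wt D V P d) + wt D V P₀ d + WronskPoly.tri (r + 1) ≤
      (r + 1) * d + S.card * WronskPoly.tri (r + 1) := by
  classical
  obtain ⟨t, ht⟩ := exists_coord hK hg P₀
  obtain ⟨x, hx, hxD⟩ := exists_div_eq hK hg (D := D - Finsupp.single P₀ (d : ℤ)) (by
    rw [Basic.deg_sub, deg_single, place_deg_eq_one hK P₀, hD]; push_cast; ring)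
  have hordx : ∀ Q : Place k K, Q.ord x = D Q - (if P₀ = Q then (d : ℤ) else 0) := by
    intro Q
    rw [← div_apply hK, hxD, Finsupp.sub_apply, Finsupp.single_apply]
  have hordx' : ∀ Q : Place k K, Q ≠ P₀ → Q.ord x = D Q := by
    intro Q hQ
    rw [hordx, if_neg (Ne.symm hQ), sub_zero]
  -- the coordinates of the members of `V`
  let e : k[X] →ₗ[k] K := (LinearMap.mulRight k x⁻¹) ∘ₗ (aeval t).toLinearMap
  have he : ∀ g, e g = aeval t g * x⁻¹ := fun g => rfl
  have heinj : Function.Injective e := by
    intro a b hab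
    rw [he, he] at hab
    exact ht.aeval_injective (mul_right_cancel₀ (inv_ne_zero hx) hab)
  have hval : ∀ (Q : Place k K) (g : k[X]), Q.1 (aeval t g) = Q.1 (e g) * exp (-(Q.ord x)) := by
    intro Q g
    rw [he, map_mul, map_inv₀, val_eq_exp Q hx, mul_assoc, ← exp_neg, ← exp_add]
    simp
  have hex : ∀ v ∈ V, ∃ g : k[X], e g = v := by
    intro v hv
    by_cases hv0 : v = 0
    · exact ⟨0, by rw [hv0, map_zero]⟩
    have hvx : v * x ∈ L (Finsupp.single P₀ (d : ℤ)) := by
      rw [mem_L_iff_ord (mul_ne_zero hv0 hx)]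
      intro Q
      have h1 := (mem_L_iff_ord hv0).1 (hV hv) Q
      rw [ord_mul Q hv0 hx, hordx, Finsupp.single_apply]
      split_ifs <;> omega
    obtain ⟨g, -, hg⟩ := ht.mem_L_single hK hg d hvx
    refine ⟨g, ?_⟩
    rw [he, hg, mul_inv_cancel_right₀ hx]
  choose m b hm hb hbV hbP hmd hsum using exists_adapted_at hK hD hV hVr
  choose g hgb using fun P => fun i => hex (b P i) (hbV P i)
  have hspan : ∀ P, ∀ i, g P₀ i ∈ Submodule.span k (Set.range (g P)) := by
    intro P i
    have h1 : e (g P₀ i) ∈ Submodule.span k (Set.range (b P)) := by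
      rw [span_eq_of_linearIndependent hVr (hb P) (hbV P), hgb]
      exact hbV P₀ i
    have h2 : Set.range (b P) = e '' Set.range (g P) := by
      rw [← Set.range_comp]
      congr 1
      ext j
      exact (hgb P j).symm
    rw [h2, ← Submodule.map_span] at h1
    obtain ⟨y, hy, hy'⟩ := h1
    rwa [← heinj hy']
  have hdeg : ∀ i, (g P₀ i).natDegree = d - m P₀ i := by
    intro i
    have hg0 : g P₀ i ≠ 0 := by
      intro h0
      have := (hb P₀).ne_zero i
      rw [← hgb, h0, map_zero] at this
      exact this rfl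
    have h1 := ht.val_aeval_pole hg0
    rw [hval, hgb, hbP, hordx, if_pos rfl, ← exp_add, exp_inj] at h1
    have := hmd P₀ i
    omega
  have hne : WronskPoly.wr (g P₀) ≠ 0 := by
    apply WronskPoly.wr_ne_zero
    · intro i h0
      have := (hb P₀).ne_zero i
      rw [← hgb, h0, map_zero] at this
      exact this rfl
    · intro i j hij
      simp only [hdeg] at hij
      have h1 := hmd P₀ i
      have h2 := hmd P₀ j
      exact (hm P₀).injective (by omega)
  -- values of `t`
  have hexa : ∀ P : Place k K, ∃ a : k, P ≠ P₀ → P.1 (t - algebraMap k K a) < 1 := by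
    intro P
    by_cases hP : P = P₀
    · exact ⟨0, fun h => absurd hP h⟩
    · obtain ⟨a, ha⟩ := ht.exists_val hK hP
      exact ⟨a, fun _ => ha⟩
  choose a ha using hexa
  have hPS : ∀ P ∈ S, P ≠ P₀ := fun P hP h => hS (h ▸ hP)
  have key := WronskPoly.plucker (g P₀) (fun i => d - m P₀ i) (fun i => (hdeg i).le) hne S a
    (fun P hP Q hQ hPQ => ht.val_inj hK (hPS P hP) (hPS Q hQ) (ha P (hPS P hP))
      (by rw [hPQ]; exact ha Q (hPS Q hQ)))
    g m (fun P hP i => ht.pow_dvd_of_val_le hK (hPS P hP) (ha P (hPS P hP)) (by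
      rw [hval, hgb, hbP, hordx' P (hPS P hP), ← exp_add, exp_le_exp]
      omega))
    (fun P _ i => hspan P i)
  have h1 : ∑ P ∈ S, ∑ i, m P i = ∑ P ∈ S, wt D V P d := Finset.sum_congr rfl fun P _ => hsum P
  have h2 : (∑ i, (d - m P₀ i)) + wt D V P₀ d = (r + 1) * d := by
    rw [← hsum P₀, ← Finset.sum_add_distrib, Finset.sum_congr rfl fun i _ =>
      Nat.sub_add_cancel (hmd P₀ i)]
    simp
  rw [h1] at key
  omega

/-- **Plücker inequality** on a function field of genus zero: the total ramification weight of a `g^r_d` at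
finitely many places is at most `(r+1)(d-r)`. -/
theorem plucker [CharZero k] (hK : IsFunctionField k K) (hg : genus k K = 0) {D : Divisor k K}
    {d : ℕ} (hD : D.deg = d) {V : Submodule k K} (hV : V ≤ L D) {r : ℕ}
    (hVr : Module.finrank k ↥V = r + 1) (S : Finset (Place k K)) :
    (∑ P ∈ S, wt D V P d) + r * (r + 1) ≤ (r + 1) * d + S.card * (r * (r + 1) / 2) := by
  classical
  have htri : WronskPoly.tri (r + 1) = r * (r + 1) / 2 := by
    have := WronskPoly.two_mul_tri r
    omega
  have h2 := two_mul_half r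
  rcases S.eq_empty_or_nonempty with rfl | ⟨P₀, hP₀⟩
  · obtain ⟨P₀⟩ := K660.Places.nonempty_place hK
    have h3 := plucker_aux hK hg hD hV hVr P₀ ∅ (Finset.notMem_empty _)
    have h4 := tri_le_wt hK hD hV hVr P₀
    rw [htri] at h3 h4
    simp only [Finset.sum_empty, Finset.card_empty, zero_mul, zero_add, add_zero] at h3 ⊢
    omega
  · have h3 := plucker_aux hK hg hD hV hVr P₀ (S.erase P₀) (Finset.notMem_erase _ _)
    rw [Finset.sum_erase_add _ _ hP₀, htri] at h3
    have h4 := Finset.card_erase_add_one hP₀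
    have h5 : S.card * (r * (r + 1) / 2) =
        (S.erase P₀).card * (r * (r + 1) / 2) + r * (r + 1) / 2 := by
      rw [← h4]; ring
    omega

end K671.RatPlucker
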