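import Mathlib.RingTheory.Derivation.Basic
import Mathlib.LinearAlgebra.Matrix.ToLinearEquiv
import Mathlib.LinearAlgebra.LinearIndependent.Lemmas
import Mathlib.Tactic

/-! Wronskians in a field with a derivation. -/

namespace K671.WronskField

variable {k K : Type*} [Field k] [Field K] [Algebra k K]

/-- The matrix of iterated derivatives. -/
def mat (δ : Derivation k K K) {n : ℕ} (f : Fin n → K) : Matrix (Fin n) (Fin n) K :=
  Matrix.of fun i j => δ^[(i : ℕ)] (f j)

/-- Functions linearly independent over the constants have a nonzero Wronskian. -/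
theorem det_ne_zero (δ : Derivation k K K) (hδ : ∀ x, δ x = 0 → x ∈ Set.range (algebraMap k K)) :
    ∀ {n : ℕ} (f : Fin n → K), LinearIndependent k f → (mat δ f).det ≠ 0 := by
  intro n
  induction n with
  | zero => intro f _; simp
  | succ n ih =>
    intro f hf hdet
    obtain ⟨c, hc0, hc⟩ := Matrix.exists_mulVec_eq_zero_iff.2 hdet
    have hc' : ∀ i : Fin (n + 1), ∑ j, δ^[(i : ℕ)] (f j) * c j = 0 := fun i => congrFun hc i
    have hf' : LinearIndependent k (fun j : Fin n => f j.castSucc) :=
      hf.comp _ (Fin.castSucc_injective n)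
    have hW := ih _ hf'
    -- the last coefficient is nonzero
    have hlast : c (Fin.last n) ≠ 0 := by
      intro h0
      apply hW
      rw [← Matrix.exists_mulVec_eq_zero_iff]
      refine ⟨fun j => c j.castSucc, ?_, ?_⟩
      · intro h
        apply hc0
        funext j
        refine Fin.lastCases ?_ (fun j => ?_) j
        · exact h0
        · exact congrFun h j
      · funext i
        have := hc' i.castSucc
        rw [Fin.sum_univ_castSucc, h0, mul_zero, add_zero] at this
        exact this
    -- normalise
    let b : Fin (n + 1) → K := fun j => c j / c (Fin.last n)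
    have hb1 : b (Fin.last n) = 1 := div_self hlast
    have hb : ∀ i : Fin (n + 1), ∑ j, δ^[(i : ℕ)] (f j) * b j = 0 := by
      intro i
      have : ∑ j, δ^[(i : ℕ)] (f j) * b j = (∑ j, δ^[(i : ℕ)] (f j) * c j) / c (Fin.last n) := by
        rw [Finset.sum_div]
        exact Finset.sum_congr rfl fun j _ => (mul_div_assoc _ _ _).symm
      rw [this, hc' i, zero_div]
    have hδb : ∀ j : Fin n, δ (b j.castSucc) = 0 := by
      by_contra hcon
      push Not at hcon
      obtain ⟨j₀, hj₀⟩ := hcon
      apply hW
      rw [← Matrix.exists_mulVec_eq_zero_iff]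
      refine ⟨fun j => δ (b j.castSucc), fun h => hj₀ (congrFun h j₀), ?_⟩
      funext i
      have h1 := congrArg δ (hb i.castSucc)
      rw [map_sum, map_zero] at h1
      have h2 : ∀ j : Fin (n + 1), δ (δ^[((i.castSucc : Fin (n + 1)) : ℕ)] (f j) * b j) =
          δ^[(i : ℕ)] (f j) * δ (b j) + δ^[(i : ℕ) + 1] (f j) * b j := by
        intro j
        rw [Derivation.leibniz, smul_eq_mul, smul_eq_mul, Function.iterate_succ_apply', Fin.val_castSucc]
        ring
      rw [Finset.sum_congr rfl fun j _ => h2 j, Finset.sum_add_distrib] at h1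
      have h3 : ∑ j, δ^[(i : ℕ) + 1] (f j) * b j = 0 := by
        have := hb i.succ
        rwa [Fin.val_succ] at this
      rw [h3, add_zero, Fin.sum_univ_castSucc, hb1, Derivation.map_one_eq_zero, mul_zero,
        add_zero] at h1
      exact h1
    have hex : ∀ j : Fin (n + 1), ∃ β : k, algebraMap k K β = b j := by
      intro j
      refine Fin.lastCases ?_ (fun j => ?_) j
      · exact ⟨1, by rw [hb1, map_one]⟩
      · exact hδ _ (hδb j)
    choose β hβ using hex
    have h0 := hb 0
    have h1 : ∑ j, β j • f j = 0 := by
      rw [← h0]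
      refine Finset.sum_congr rfl fun j _ => ?_
      rw [Algebra.smul_def, hβ, mul_comm]
      rfl
    have h2 := Fintype.linearIndependent_iff.1 hf β h1 (Fin.last n)
    have h3 := hβ (Fin.last n)
    rw [h2, map_zero, hb1] at h3
    exact zero_ne_one h3

end K671.WronskField
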